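import Groth.Agent.Lib.Koszul12.Twist

/-!
# Homology of the Koszul complex of the twisted divisors as a fibre product
-/

set_option autoImplicit false
set_option linter.all false
set_option maxHeartbeats 1000000
set_option backward.isDefEq.respectTransparency false
set_option backward.isDefEq.respectTransparency.types false
universe u

open CategoryTheory CategoryTheory.Limits AlgebraicGeometry TopologicalSpace Opposite KoszSh

noncomputable section

namespace GrothLib.Koszul12

open GrothLib.InvExt (mres fres IsGen mres_smul mres_mres)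
open GrothLib.VA (tm)
open GrothLib.IdealModSec (val val_injective)
open GrothLib.BlowUp (CartierOn)

variable {X : Scheme.{u}}

theorem comp_toSubscheme_zero {I J : X.IdealSheafData} (h : I ≤ J) :
    ClSub.idealModι I ≫ ClSub.toSubscheme J = 0 := by
  refine Scheme.Modules.hom_ext _ _ fun W => AddCommGrpCat.ext fun m => ?_
  show J.subschemeι.app W (IdealModSec.val I W m) = 0
  rw [← Scheme.IdealSheafData.inclusion_subschemeι h, Scheme.Hom.comp_app]
  show (Scheme.IdealSheafData.inclusion h).app _ (I.subschemeι.app W (IdealModSec.val I W m)) = 0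
  rw [IdealModSec.app_val I W m]
  exact map_zero _

/-- The map of ideal modules of an inclusion. -/
def incl {I J : X.IdealSheafData} (h : I ≤ J) : ClSub.idealMod I ⟶ ClSub.idealMod J :=
  kernel.lift (ClSub.toSubscheme J) (ClSub.idealModι I) (comp_toSubscheme_zero h)

theorem incl_ι {I J : X.IdealSheafData} (h : I ≤ J) : incl h ≫ ClSub.idealModι J = ClSub.idealModι I :=
  kernel.lift_ι _ _ _

theorem val_incl {I J : X.IdealSheafData} (h : I ≤ J) (W : X.Opens) (m : Γ(ClSub.idealMod I, W)) :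
    val J W ((incl h).app W m) = val I W m := by
  show (incl h ≫ ClSub.idealModι J).app W m = _
  rw [incl_ι]
  rfl

theorem mul_le_left (I J : X.IdealSheafData) : I * J ≤ I := by
  intro U
  simp only [Scheme.IdealSheafData.ideal_mul, Pi.mul_apply]
  exact Ideal.mul_le_left (I := I.ideal U) (J := J.ideal U)

theorem exists_gen {I : X.IdealSheafData} {U : X.affineOpens} (h : CartierOn I U) :
    ∃ e : Γ(ClSub.idealMod I, U.1), val I U.1 e ∈ nonZeroDivisors Γ(X, U.1) ∧
      I.ideal U = Ideal.span {val I U.1 e} ∧ IsGen (ClSub.idealMod I) U.1 e := by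
  obtain ⟨f, hf, hI⟩ := h
  obtain ⟨e, rfl⟩ := IdealModSec.exists_val_eq I U (hI ▸ Ideal.mem_span_singleton_self f)
  exact ⟨e, hf, hI, IdealModSec.isGen_of_cartierOn hf hI⟩

theorem exists_cartier_nhd {n : ℕ} (J : Fin n → X.IdealSheafData) (hJ : ∀ i, _root_.BlowUp.IsEffCartierIdeal (J i))
    {x : X} {W : X.Opens} (hx : x ∈ W) : ∀ s : Finset (Fin n),
      ∃ V : X.affineOpens, x ∈ V.1 ∧ V.1 ≤ W ∧ ∀ i ∈ s, CartierOn (J i) V := by
  classical
  intro s
  induction s using Finset.induction_on with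
  | empty =>
    obtain ⟨V, hxV, hV⟩ := GrothLib.BlowUp.exists_affine_mem_le hx
    exact ⟨V, hxV, hV, by simp⟩
  | insert a t _ ih =>
    obtain ⟨V, hxV, hVW, hV⟩ := ih
    obtain ⟨V', hxV', hV'V, hV'⟩ := GrothLib.BlowUp.exists_cartierOn_le (hJ a) hxV
    refine ⟨V', hxV', hV'V.trans hVW, fun i hi => ?_⟩
    rcases Finset.mem_insert.mp hi with rfl | hi
    · exact hV'
    · exact (hV i hi).mono hV'V

/-- A finite sum of ideal modules of effective Cartier divisors is finite locally free. -/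
theorem isFinLocFree_sigma {n : ℕ} (J : Fin n → X.IdealSheafData)
    (hJ : ∀ i, _root_.BlowUp.IsEffCartierIdeal (J i)) :
    FlatMod.IsFinLocFree (∐ fun i => ClSub.idealMod (J i)) := by
  intro x
  obtain ⟨V, hxV, -, hV⟩ := exists_cartier_nhd J hJ (W := ⊤) (x := x) trivial Finset.univ
  choose e _ _ he using fun i => exists_gen (hV i (Finset.mem_univ i))
  exact ⟨V.1, n, hxV, FinCov.exists_iso_of_frame (isFrame_sigma (fun i => ClSub.idealMod (J i)) e he)⟩

variable {n : ℕ} (IY : Fin n → X.IdealSheafData) (ID : X.IdealSheafData)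

/-- The inclusion of the twisted divisors. -/
def twMap : (∐ fun i => ClSub.idealMod (IY i * ID)) ⟶ ∐ fun i => ClSub.idealMod (IY i) :=
  Sigma.desc fun i => incl (mul_le_left (IY i) ID) ≫ Sigma.ι (fun i => ClSub.idealMod (IY i)) i

theorem twMap_desc : twMap IY ID ≫ Limits.Sigma.desc (fun i => ClSub.idealModι (IY i)) =
    Limits.Sigma.desc fun i => ClSub.idealModι (IY i * ID) := by
  refine Sigma.hom_ext _ _ fun i => ?_
  rw [twMap, Sigma.ι_desc_assoc, Category.assoc, Sigma.ι_desc, Sigma.ι_desc, incl_ι]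

theorem nonempty_iso (hY : ∀ i, _root_.BlowUp.IsEffCartierIdeal (IY i)) (hD : _root_.BlowUp.IsEffCartierIdeal ID)
    (C : KoszSh.Cx (∐ fun i => ClSub.idealMod (IY i)) (Limits.Sigma.desc fun i => ClSub.idealModι (IY i)))
    (C' : KoszSh.Cx (∐ fun i => ClSub.idealMod (IY i * ID)) (Limits.Sigma.desc fun i => ClSub.idealModι (IY i * ID)))
    (q : ℕ)
    (hreg : ∀ (U : X.affineOpens) (x : Γ(X, U.1)), x ∈ nonZeroDivisors Γ(X, U.1) → ID.ideal U = Ideal.span {x} →
      IsSMulRegular Γ(C.K.homology q, U.1) x) :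
    Nonempty (C'.K.homology q ≅ CohB1.tensorMod (Sq C.K ID q) (CohB1.tensorPow (ClSub.idealMod ID) q)) := by
  classical
  have hq : ∀ p, (C.K.X p).IsQuasicoherent := fun p =>
    Euler.isQuasicoherent_of_isFinLocFree (ExtPowX.isFinLocFree_extPow (isFinLocFree_sigma IY hY) (C.isExtPow p))
  have hY' : ∀ i, _root_.BlowUp.IsEffCartierIdeal (IY i * ID) := fun i => GrothLib.BlowUp.isEffCartierIdeal_mul (hY i) hD
  have hq' : ∀ p, (C'.K.X p).IsQuasicoherent := fun p =>
    Euler.isQuasicoherent_of_isFinLocFree (ExtPowX.isFinLocFree_extPow (isFinLocFree_sigma _ hY') (C'.isExtPow p))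
  obtain ⟨φ, hφ⟩ := exists_map (twMap IY ID) (twMap_desc IY ID) C' C
  let ι := {U : X.affineOpens // CartierOn ID U ∧ ∀ i, CartierOn (IY i) U}
  let B : ι → X.Opens := fun U => U.1.1
  have hB : Opens.IsBasis (Set.range B) := by
    rw [Opens.isBasis_iff_nbhd]
    intro W x hx
    obtain ⟨V, hxV, hVW, hV⟩ := exists_cartier_nhd IY hY hx Finset.univ
    obtain ⟨V', hxV', hV'V, hV'⟩ := GrothLib.BlowUp.exists_cartierOn_le hD hxV
    exact ⟨_, ⟨⟨V', hV', fun i => (hV i (Finset.mem_univ i)).mono hV'V⟩, rfl⟩, hxV', hV'V.trans hVW⟩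
  let L := CohB1.tensorPow (ClSub.idealMod ID) q
  have loc : ∀ (U : ι) (e : Γ(ClSub.idealMod ID, U.1.1)), IsGen (ClSub.idealMod ID) U.1.1 e →
      val ID U.1.1 e ∈ nonZeroDivisors Γ(X, U.1.1) → ID.ideal U.1 = Ideal.span {val ID U.1.1 e} →
      (∀ c' : Γ(C'.K.cycles q, U.1.1), ∃ c : Γ(C.K.cycles q, U.1.1),
        (φ.f q).app U.1.1 ((C'.K.iCycles q).app U.1.1 c') = val ID U.1.1 e ^ q • (C.K.iCycles q).app U.1.1 c) ∧
      Function.Surjective ((C'.K.homologyπ q).app U.1.1) ∧
      ∃ ψ : Γ(C'.K.homology q, U.1.1) ≃ₗ[Γ(X, U.1.1)] Γ(CohB1.tensorMod (Sq C.K ID q) L, U.1.1),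
        ∀ c' c, (φ.f q).app U.1.1 ((C'.K.iCycles q).app U.1.1 c') = val ID U.1.1 e ^ q • (C.K.iCycles q).app U.1.1 c →
          ψ ((C'.K.homologyπ q).app U.1.1 c') = tm ((can C.K ID q).app U.1.1 c) (TensorGen.pw _ e q) := by
    intro U e he hnz hid
    choose a ha hai hag using fun i => exists_gen (U.2.2 i)
    have hmem : ∀ i, val (IY i) U.1.1 (a i) * val ID U.1.1 e ∈ (IY i * ID).ideal U.1 := fun i => by
      simp only [Scheme.IdealSheafData.ideal_mul, Pi.mul_apply]
      exact Ideal.mul_mem_mul (IdealModSec.val_mem _ _ _) (IdealModSec.val_mem _ _ _)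
    choose a' ha' using fun i => IdealModSec.exists_val_eq (IY i * ID) U.1 (hmem i)
    have hag' : ∀ i, IsGen (ClSub.idealMod (IY i * ID)) U.1.1 (a' i) := fun i => by
      refine IdealModSec.isGen_of_cartierOn (ha' i ▸ mul_mem (ha i) hnz) ?_
      rw [ha' i]
      simp only [Scheme.IdealSheafData.ideal_mul, Pi.mul_apply, hai i, hid, Ideal.span_singleton_mul_span_singleton]
    let b := (isFrame_sigma (fun i => ClSub.idealMod (IY i)) a hag).basis U.1.1 le_rfl
    let b' := (isFrame_sigma (fun i => ClSub.idealMod (IY i * ID)) a' hag').basis U.1.1 le_rfl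
    have hb : ∀ i, (twMap IY ID).app U.1.1 (b' i) = val ID U.1.1 e • b i := by
      intro i
      rw [FinCov.IsFrame.basis_apply, FinCov.IsFrame.basis_apply]
      show (twMap IY ID).app U.1.1 (mres _ le_rfl _) = _ • mres _ le_rfl _
      rw [InvExt.mres_self, InvExt.mres_self, ← Scheme.Modules.Hom.app_smul]
      have h1 : val ID U.1.1 e • a i = (incl (mul_le_left (IY i) ID)).app U.1.1 (a' i) :=
        val_injective _ _ (by rw [IdealModSec.val_smul, val_incl, ha', mul_comm])
      rw [h1]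
      show (Sigma.ι (fun i => ClSub.idealMod (IY i * ID)) i ≫ twMap IY ID).app U.1.1 (a' i) =
        (incl (mul_le_left (IY i) ID) ≫ Sigma.ι (fun i => ClSub.idealMod (IY i)) i).app U.1.1 (a' i)
      rw [twMap, Sigma.ι_desc]
    exact exists_local C.K ID q hq C'.K hq' φ U.1 (val ID U.1.1 e) hid
      (fun p => exists_scale (twMap IY ID) C' C φ hφ U.1 _ hnz b' b hb p) (hreg U.1 _ hnz hid) L
      (TensorGen.pw _ e q) (TensorGen.isGen_pw _ he q)
  have hgen : ∀ U : ι, ∃ e : Γ(ClSub.idealMod ID, U.1.1), val ID U.1.1 e ∈ nonZeroDivisors Γ(X, U.1.1) ∧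
      ID.ideal U.1 = Ideal.span {val ID U.1.1 e} ∧ IsGen (ClSub.idealMod ID) U.1.1 e := fun U => exists_gen U.2.1
  choose e henz heid heg using hgen
  choose hex hsur ψ hψ using fun U : ι => loc U (e U) (heg U) (henz U) (heid U)
  have indep : ∀ (U : ι) (e' : Γ(ClSub.idealMod ID, U.1.1)), IsGen (ClSub.idealMod ID) U.1.1 e' → ∀ c' c,
      (φ.f q).app U.1.1 ((C'.K.iCycles q).app U.1.1 c') = val ID U.1.1 e' ^ q • (C.K.iCycles q).app U.1.1 c →
        ψ U ((C'.K.homologyπ q).app U.1.1 c') = tm ((can C.K ID q).app U.1.1 c) (TensorGen.pw _ e' q) := by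
    intro U e' he' c' c hc
    obtain ⟨γ, hγ⟩ := (heg U).exists_smul_eq le_rfl e'
    rw [InvExt.mres_self] at hγ
    subst hγ
    rw [IdealModSec.val_smul, mul_pow, mul_comm, mul_smul, ← Scheme.Modules.Hom.app_smul] at hc
    rw [hψ U c' _ hc, Scheme.Modules.Hom.app_smul, TensorGen.pw_smul, VA.tm_smul_left, VA.tm_smul_right]
  refine ⟨(AffHom.exists_iso_basis hB ψ fun U V h m => ?_).choose⟩
  obtain ⟨c', rfl⟩ := hsur U m
  obtain ⟨c, hc⟩ := hex U c'
  have hc2 : (φ.f q).app V.1.1 ((C'.K.iCycles q).app V.1.1 ((C'.K.cycles q).presheaf.map (homOfLE h).op c')) =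
      val ID V.1.1 (mres _ h (e U)) ^ q • (C.K.iCycles q).app V.1.1 ((C.K.cycles q).presheaf.map (homOfLE h).op c) := by
    rw [← QCoh.map_app, ← QCoh.map_app, ← QCoh.map_app, hc, Scheme.Modules.map_smul, map_pow, IdealModSec.val_mres]
  rw [QCoh.map_app, indep V _ ((heg U).restrict h) _ _ hc2, indep U _ (heg U) _ _ hc]
  show mres _ h (tm _ _) = _
  rw [VA.mres_tm, TensorGen.mres_pw]
  congr 1
  exact QCoh.map_app _ (homOfLE h) c

end GrothLib.Koszul12
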