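import Groth.Agent.Lib.IdealModSec.Basic
import Groth.Agent.Lib.QCoh.Extension
import Groth.Agent.Lib.QCoh.Abelian
import Groth.Agent.Lib.Cohom.Serre
import Groth.Agent.Lib.FinCov.Frame

/-!
# Sections of kernels, cokernels, fibre products and finite coproducts of modules
-/

set_option autoImplicit false
set_option linter.all false
set_option backward.isDefEq.respectTransparency false
universe u

open CategoryTheory CategoryTheory.Limits AlgebraicGeometry TopologicalSpace Opposite

noncomputable section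

namespace GrothLib.Koszul12

open GrothLib.InvExt (mres IsGen)

variable {X : Scheme.{u}}

/-- Sections of a kernel. -/
theorem app_of_isKernel {M N P : X.Modules} {φ : M ⟶ N} {κ : P ⟶ M} (w : κ ≫ φ = 0)
    (h : IsLimit (KernelFork.ofι κ w)) (W : X.Opens) :
    Function.Injective (κ.app W) ∧ ∀ m : Γ(M, W), φ.app W m = 0 → ∃ p, κ.app W p = m := by
  haveI : Mono κ := Fork.IsLimit.mono h
  refine ⟨Cohom.app_injective_of_mono κ W, fun m hm => ?_⟩
  obtain ⟨k, hk⟩ := (IdealModSec.app_kernel φ W).2 m hm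
  refine ⟨(Fork.IsLimit.lift h (kernel.ι φ) (by rw [kernel.condition, comp_zero])).app W k, ?_⟩
  show (Fork.IsLimit.lift h (kernel.ι φ) _ ≫ κ).app W k = m
  rw [show Fork.IsLimit.lift h (kernel.ι φ) _ ≫ κ = kernel.ι φ from Fork.IsLimit.lift_ι' h _ _]
  exact hk

/-- Sections of a cokernel over an affine open. -/
theorem app_of_isCokernel {A B Q : X.Modules} {f : A ⟶ B} {g : B ⟶ Q} (w : f ≫ g = 0)
    (h : IsColimit (CokernelCofork.ofπ g w)) [A.IsQuasicoherent] [B.IsQuasicoherent] (U : X.affineOpens) :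
    Function.Surjective (g.app U.1) ∧ ∀ b : Γ(B, U.1), g.app U.1 b = 0 → ∃ a, f.app U.1 a = b := by
  haveI : Epi g := Cofork.IsColimit.epi h
  haveI : (cokernel f).IsQuasicoherent := QCoh.isQuasicoherent_cokernel f
  haveI : Q.IsQuasicoherent :=
    QCoh.isQuasicoherent_of_iso (show cokernel f ≅ Q from IsColimit.coconePointUniqueUpToIso (colimit.isColimit _) h)
  haveI : (kernel g).IsQuasicoherent := QCoh.isQuasicoherent_kernel g
  have hS : (ShortComplex.mk (kernel.ι g) g (kernel.condition g)).ShortExact :=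
    { exact := ShortComplex.exact_of_f_is_kernel _ (kernelIsKernel g) }
  refine ⟨QCoh.app_surjective_of_isAffineOpen hS U.2, fun b hb => ?_⟩
  obtain ⟨k, hk⟩ := (IdealModSec.app_kernel g U.1).2 b hb
  let T : ShortComplex X.Modules := ShortComplex.mk f g w
  haveI : Epi (kernel.lift g f w) := (ShortComplex.exact_of_g_is_cokernel T h).epi_kernelLift
  haveI : (kernel (kernel.lift g f w)).IsQuasicoherent := QCoh.isQuasicoherent_kernel _
  have hS' : (ShortComplex.mk (kernel.ι (kernel.lift g f w)) (kernel.lift g f w) (kernel.condition _)).ShortExact :=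
    { exact := ShortComplex.exact_of_f_is_kernel _ (kernelIsKernel _) }
  obtain ⟨a, ha⟩ := QCoh.app_surjective_of_isAffineOpen hS' U.2 k
  refine ⟨a, ?_⟩
  rw [← hk, ← ha]
  show f.app U.1 a = (kernel.lift g f w ≫ kernel.ι g).app U.1 a
  rw [kernel.lift_ι]

/-- Sections of a fibre product are determined by their projections. -/
theorem pullback_app_ext {M N Q : X.Modules} (f : M ⟶ Q) (g : N ⟶ Q) (W : X.Opens)
    {a b : Γ(pullback f g, W)} (h₁ : (pullback.fst f g).app W a = (pullback.fst f g).app W b)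
    (h₂ : (pullback.snd f g).app W a = (pullback.snd f g).app W b) : a = b := by
  let G := Scheme.Modules.toPresheaf X ⋙ (evaluation _ _).obj (op W)
  haveI : PreservesLimits ((evaluation (Opens X)ᵒᵖ Ab.{u}).obj (op W)) := inferInstance
  haveI : PreservesLimits G := comp_preservesLimits _ _
  haveI : PreservesLimitsOfSize.{0, 0} G := preservesLimitsOfSize_shrink.{0, u, 0, u} _
  refine Concrete.isLimit_ext _ (isLimitPullbackConeMapOfIsLimit G pullback.condition (pullbackIsPullback f g)) a b ?_
  rintro (_ | _ | _)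
  · show f.app W ((pullback.fst f g).app W a) = f.app W ((pullback.fst f g).app W b)
    rw [h₁]
  · exact h₁
  · exact h₂

section Sigma

variable {n : ℕ} (M : Fin n → X.Modules)

/-- The projections of a finite coproduct. -/
def sigmaPr (j : Fin n) : (∐ M) ⟶ M j :=
  Sigma.desc fun i => if h : i = j then eqToHom (congrArg M h) else 0

theorem ι_sigmaPr_self (j : Fin n) : Sigma.ι M j ≫ sigmaPr M j = 𝟙 _ := by
  rw [sigmaPr, Sigma.ι_desc, dif_pos rfl, eqToHom_refl]

theorem ι_sigmaPr_ne {i j : Fin n} (h : i ≠ j) : Sigma.ι M i ≫ sigmaPr M j = 0 := by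
  rw [sigmaPr, Sigma.ι_desc, dif_neg h]

theorem sum_sigmaPr_ι : ∑ i, sigmaPr M i ≫ Sigma.ι M i = 𝟙 _ := by
  refine Sigma.hom_ext _ _ fun j => ?_
  rw [Preadditive.comp_sum, Finset.sum_eq_single j]
  · rw [← Category.assoc, ι_sigmaPr_self, Category.id_comp, Category.comp_id]
  · intro i _ hi
    rw [← Category.assoc, ι_sigmaPr_ne M (Ne.symm hi), Limits.zero_comp]
  · simp

/-- Generators of the summands form a frame of a finite coproduct. -/
theorem isFrame_sigma {V : X.Opens} (e : ∀ i, Γ(M i, V)) (he : ∀ i, IsGen (M i) V (e i)) :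
    FinCov.IsFrame (∐ M) V (fun i => (Sigma.ι M i).app V (e i)) := by
  intro W h
  have hres : ∀ (c : Fin n → Γ(X, W)), ∑ i, c i • (∐ M).presheaf.map (homOfLE h).op ((Sigma.ι M i).app V (e i)) =
      ∑ i, (Sigma.ι M i).app W (c i • mres (M i) h (e i)) := fun c => Finset.sum_congr rfl fun i _ => by
    rw [Scheme.Modules.Hom.app_smul]
    exact congrArg (c i • ·) (QCoh.map_app (Sigma.ι M i) (homOfLE h) (e i))
  have hpr : ∀ (c : Fin n → Γ(X, W)) j, (sigmaPr M j).app W (∑ i, (Sigma.ι M i).app W (c i • mres (M i) h (e i))) =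
      c j • mres (M j) h (e j) := by
    intro c j
    rw [map_sum, Finset.sum_eq_single j]
    · show (Sigma.ι M j ≫ sigmaPr M j).app W _ = _
      rw [ι_sigmaPr_self]; rfl
    · intro i _ hi
      show (Sigma.ι M i ≫ sigmaPr M j).app W _ = 0
      rw [ι_sigmaPr_ne M hi]; rfl
    · simp
  refine ⟨fun c d hcd => funext fun j => (he j).smul_left_injective h ?_, fun m => ?_⟩
  · simp only [hres] at hcd
    rw [← hpr c j, ← hpr d j, hcd]
  · choose c hc using fun i => (he i).exists_smul_eq h ((sigmaPr M i).app W m)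
    refine ⟨c, ?_⟩
    simp only [hres, ← hc]
    show ∑ i, (sigmaPr M i ≫ Sigma.ι M i).app W m = m
    rw [← FinCov.sum_app, sum_sigmaPr_ι]
    rfl

end Sigma

end GrothLib.Koszul12
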