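import Groth.Prelude.Def_KoszulSh
import Groth.Agent.Lib.Koszul12.Sections
import Groth.Agent.Lib.TensorGen.Basic
import Groth.Agent.Lib.K0Sub.KerUnit
import Groth.Agent.Lib.ExtPowX.Basic
import Groth.Agent.Lib.FinCov.FrameFree

/-!
# The homology of a Koszul complex of twisted divisors
-/

set_option autoImplicit false
set_option linter.all false
set_option maxHeartbeats 1000000
set_option backward.isDefEq.respectTransparency false
set_option backward.isDefEq.respectTransparency.types false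
universe u

open CategoryTheory CategoryTheory.Limits AlgebraicGeometry TopologicalSpace Opposite KoszSh

noncomputable section

namespace GrothLib.Koszul12

open GrothLib.InvExt (mres fres IsGen)
open GrothLib.VA (tm)

variable {X : Scheme.{u}}

/-- Koszul complexes are functorial in the cosection. -/
theorem exists_map {E F : X.Modules} {s : E ⟶ Coh.structureModule X} {t : F ⟶ Coh.structureModule X}
    (f : E ⟶ F) (hf : f ≫ t = s) (C : Cx E s) (D : Cx F t) :
    ∃ φ : C.K ⟶ D.K, ∀ (p : ℕ) (U : X.affineOpens) (e : Fin p → Γ(E, U.1)),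
      (φ.f p).app U.1 ((C.loc p U).symm (exteriorPower.ιMulti _ p e)) =
        (D.loc p U).symm (exteriorPower.ιMulti _ p (fun j => f.app U.1 (e j))) := by
  let fU : ∀ U : X.Opens, Γ(E, U) →ₗ[Γ(X, U)] Γ(F, U) := fun U => QCoh.appLinear f U
  have key : ∀ (p : ℕ) (N : X.Modules) (a b : C.K.X p ⟶ N),
      (∀ (U : X.affineOpens) (e : Fin p → Γ(E, U.1)),
        a.app U.1 ((C.loc p U).symm (exteriorPower.ιMulti _ p e)) =
          b.app U.1 ((C.loc p U).symm (exteriorPower.ιMulti _ p e))) → a = b := by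
    intro p N a b h
    refine AffHom.hom_ext fun U m => ?_
    obtain ⟨x, rfl⟩ := (C.loc p U).symm.surjective m
    have hx : x ∈ Submodule.span Γ(X, U.1) (Set.range (exteriorPower.ιMulti Γ(X, U.1) p (M := Γ(E, U.1)))) := by
      rw [exteriorPower.ιMulti_span]; trivial
    induction hx using Submodule.span_induction with
    | mem y hy => obtain ⟨e, rfl⟩ := hy; exact h U e
    | zero => simp
    | add y z _ _ hy hz => simp only [map_add, hy, hz]
    | smul r y _ hy => rw [map_smul, Scheme.Modules.Hom.app_smul, Scheme.Modules.Hom.app_smul, hy]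
  let ψ : ∀ (p : ℕ) (U : X.affineOpens), Γ(C.K.X p, U.1) →ₗ[Γ(X, U.1)] Γ(D.K.X p, U.1) := fun p U =>
    (D.loc p U).symm.toLinearMap ∘ₗ exteriorPower.map p (fU U.1) ∘ₗ (C.loc p U).toLinearMap
  have hψ : ∀ (p : ℕ) (U : X.affineOpens) (e : Fin p → Γ(E, U.1)),
      ψ p U ((C.loc p U).symm (exteriorPower.ιMulti _ p e)) =
        (D.loc p U).symm (exteriorPower.ιMulti _ p (fun j => f.app U.1 (e j))) := by
    intro p U e
    show (D.loc p U).symm (exteriorPower.map p (fU U.1) ((C.loc p U) ((C.loc p U).symm _))) = _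
    rw [LinearEquiv.apply_symm_apply, exteriorPower.map_apply_ιMulti]
    rfl
  have hres : ∀ (p : ℕ) (U V : X.affineOpens) (h : V.1 ≤ U.1) (m : Γ(C.K.X p, U.1)),
      (D.K.X p).presheaf.map (homOfLE h).op (ψ p U m) =
        ψ p V ((C.K.X p).presheaf.map (homOfLE h).op m) := by
    intro p U V h m
    obtain ⟨x, rfl⟩ := (C.loc p U).symm.surjective m
    have hx : x ∈ Submodule.span Γ(X, U.1) (Set.range (exteriorPower.ιMulti Γ(X, U.1) p (M := Γ(E, U.1)))) := by
      rw [exteriorPower.ιMulti_span]; trivial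
    induction hx using Submodule.span_induction with
    | mem y hy =>
      obtain ⟨e, rfl⟩ := hy
      rw [hψ]
      have h1 : (C.K.X p).presheaf.map (homOfLE h).op ((C.loc p U).symm (exteriorPower.ιMulti _ p e)) =
          (C.loc p V).symm (exteriorPower.ιMulti _ p (fun j => E.presheaf.map (homOfLE h).op (e j))) :=
        C.loc_res p U V h e
      rw [h1, hψ]
      refine (D.loc_res p U V h (fun j => f.app U.1 (e j))).trans ?_
      congr 2
      funext j
      exact (PresheafOfModules.naturality_apply f.val (homOfLE h).op (e j)).symm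
    | zero => simp
    | add y z _ _ hy hz => simp only [map_add, hy, hz]
    | smul r y _ hy =>
      rw [map_smul, map_smul, Scheme.Modules.map_smul, Scheme.Modules.map_smul, map_smul, hy]
  choose g hg using fun p => AffHom.exists_hom (ψ p) (hres p)
  have hg' : ∀ (p : ℕ) (U : X.affineOpens) (e : Fin p → Γ(E, U.1)),
      (g p).app U.1 ((C.loc p U).symm (exteriorPower.ιMulti _ p e)) =
        (D.loc p U).symm (exteriorPower.ιMulti _ p (fun j => f.app U.1 (e j))) := fun p U e => by rw [hg, hψ]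
  have hst : ∀ (U : X.Opens) (e : Γ(E, U)), secForm t U (f.app U e) = secForm s U e := by
    intro U e
    subst hf
    rfl
  refine ⟨⟨g, fun i j hij => ?_⟩, hg'⟩
  obtain rfl : j + 1 = i := hij
  refine key _ _ _ _ fun U e => ?_
  show (D.K.d (j + 1) j).app U.1 ((g (j + 1)).app U.1 _) = (g j).app U.1 ((C.K.d (j + 1) j).app U.1 _)
  rw [hg', D.rule, C.rule]
  simp only [dGen, map_sum, map_smul, Scheme.Modules.Hom.app_smul, hg', hst]

/-- If a map of bundles is multiplication by a section in suitable bases, so are its exterior powers. -/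
theorem exists_scale {E F : X.Modules} {s : E ⟶ Coh.structureModule X} {t : F ⟶ Coh.structureModule X}
    (f : E ⟶ F) (C : Cx E s) (D : Cx F t) (φ : C.K ⟶ D.K)
    (hφ : ∀ (p : ℕ) (U : X.affineOpens) (e : Fin p → Γ(E, U.1)),
      (φ.f p).app U.1 ((C.loc p U).symm (exteriorPower.ιMulti _ p e)) =
        (D.loc p U).symm (exteriorPower.ιMulti _ p (fun j => f.app U.1 (e j))))
    (U : X.affineOpens) (x : Γ(X, U.1)) (hx : x ∈ nonZeroDivisors Γ(X, U.1)) {n : ℕ}
    (b : Module.Basis (Fin n) Γ(X, U.1) Γ(E, U.1)) (b' : Module.Basis (Fin n) Γ(X, U.1) Γ(F, U.1))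
    (hb : ∀ i, f.app U.1 (b i) = x • b' i) (p : ℕ) :
    (∃ u : Γ(C.K.X p, U.1) ≃ₗ[Γ(X, U.1)] Γ(D.K.X p, U.1), ∀ z, (φ.f p).app U.1 z = x ^ p • u z) ∧
      IsSMulRegular Γ(D.K.X p, U.1) x := by
  let u1 : Γ(E, U.1) ≃ₗ[Γ(X, U.1)] Γ(F, U.1) := b.equiv b' (Equiv.refl _)
  let Λ : ↥(⋀[Γ(X, U.1)]^p Γ(E, U.1)) ≃ₗ[Γ(X, U.1)] ↥(⋀[Γ(X, U.1)]^p Γ(F, U.1)) :=
    LinearEquiv.ofLinear (exteriorPower.map p u1.toLinearMap) (exteriorPower.map p u1.symm.toLinearMap)
      (by rw [← exteriorPower.map_comp, ← exteriorPower.map_id]; congr 1; ext v; exact u1.apply_symm_apply v)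
      (by rw [← exteriorPower.map_comp, ← exteriorPower.map_id]; congr 1; ext v; exact u1.symm_apply_apply v)
  have hf : ∀ e, f.app U.1 e = x • u1 e := by
    intro e
    have : QCoh.appLinear f U.1 = x • u1.toLinearMap := b.ext fun i => by
      show f.app U.1 (b i) = x • u1 (b i)
      rw [hb, Module.Basis.equiv_apply, Equiv.refl_apply]
    exact LinearMap.congr_fun this e
  constructor
  · refine ⟨(C.loc p U).trans (Λ.trans (D.loc p U).symm), fun z => ?_⟩
    obtain ⟨w, rfl⟩ := (C.loc p U).symm.surjective z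
    show _ = x ^ p • (D.loc p U).symm (Λ ((C.loc p U) ((C.loc p U).symm w)))
    rw [LinearEquiv.apply_symm_apply]
    have hw : w ∈ Submodule.span Γ(X, U.1) (Set.range (exteriorPower.ιMulti Γ(X, U.1) p (M := Γ(E, U.1)))) := by
      rw [exteriorPower.ιMulti_span]; trivial
    induction hw using Submodule.span_induction with
    | mem y hy =>
      obtain ⟨e, rfl⟩ := hy
      rw [hφ, ← map_smul, show Λ (exteriorPower.ιMulti Γ(X, U.1) p e) = _ from
        exteriorPower.map_apply_ιMulti u1.toLinearMap e]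
      congr 1
      simp only [hf]
      rw [(exteriorPower.ιMulti Γ(X, U.1) p (M := Γ(F, U.1))).toMultilinearMap.map_smul_univ (fun _ => x)
        (fun j => u1 (e j)) |> fun h => show exteriorPower.ιMulti Γ(X, U.1) p (fun j => x • u1 (e j)) = _ from h,
        Fin.prod_const]
      rfl
    | zero => simp
    | add y z _ _ hy hz => simp only [map_add, smul_add, hy, hz]
    | smul r y _ hy => rw [map_smul, Scheme.Modules.Hom.app_smul, hy, map_smul, map_smul, smul_comm]
  · haveI : Module.Free Γ(X, U.1) Γ(F, U.1) := Module.Free.of_basis b'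
    let β := Module.Free.chooseBasis Γ(X, U.1) ↥(⋀[Γ(X, U.1)]^p Γ(F, U.1))
    intro a a' h
    refine (D.loc p U).injective (β.repr.injective (Finsupp.ext fun i => ?_))
    have h1 := congrArg (fun v => β.repr (D.loc p U v) i) h
    simp only [map_smul, Finsupp.smul_apply, smul_eq_mul] at h1
    exact (mul_cancel_left_mem_nonZeroDivisors hx).mp h1

section Square

variable (K : ChainComplex X.Modules ℕ) (ID : X.IdealSheafData) (q : ℕ)

/-- The fibre product of the restricted cycles and the homology. -/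
abbrev Sq : X.Modules :=
  pullback ((Scheme.Modules.pullback ID.subschemeι ⋙ Scheme.Modules.pushforward ID.subschemeι).map (K.homologyπ q))
    ((Scheme.Modules.pullbackPushforwardAdjunction ID.subschemeι).unit.app (K.homology q))

/-- The first projection. -/
abbrev sq1 : Sq K ID q ⟶ (Scheme.Modules.pullback ID.subschemeι ⋙ Scheme.Modules.pushforward ID.subschemeι).obj (K.cycles q) :=
  pullback.fst _ _

/-- The second projection. -/
abbrev sq2 : Sq K ID q ⟶ K.homology q :=
  pullback.snd _ _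

/-- The map from cycles to the fibre product. -/
def can : K.cycles q ⟶ Sq K ID q :=
  pullback.lift ((Scheme.Modules.pullbackPushforwardAdjunction ID.subschemeι).unit.app (K.cycles q)) (K.homologyπ q)
    ((Scheme.Modules.pullbackPushforwardAdjunction ID.subschemeι).unit.naturality (K.homologyπ q)).symm

variable (hK : ∀ p, (K.X p).IsQuasicoherent)

include hK in
theorem qcoh_cycles : (K.cycles q).IsQuasicoherent := by
  haveI := hK q
  haveI := hK ((ComplexShape.down ℕ).next q)
  haveI := QCoh.isQuasicoherent_kernel (K.d q ((ComplexShape.down ℕ).next q))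
  exact QCoh.isQuasicoherent_of_iso (show kernel (K.d q ((ComplexShape.down ℕ).next q)) ≅ K.cycles q from
    IsLimit.conePointUniqueUpToIso (limit.isLimit _) (K.cyclesIsKernel q _ rfl))

include hK in
theorem qcoh_homology : (K.homology q).IsQuasicoherent := by
  haveI := hK ((ComplexShape.down ℕ).prev q)
  haveI := qcoh_cycles K q hK
  haveI := QCoh.isQuasicoherent_cokernel (K.toCycles ((ComplexShape.down ℕ).prev q) q)
  exact QCoh.isQuasicoherent_of_iso (show cokernel (K.toCycles ((ComplexShape.down ℕ).prev q) q) ≅ K.homology q from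
    IsColimit.coconePointUniqueUpToIso (colimit.isColimit _) (K.homologyIsCokernel _ q rfl))

include hK in
/-- The map from cycles to the fibre product on affine opens: surjective, kernel `x` times boundaries. -/
theorem can_app (U : X.affineOpens) (x : Γ(X, U.1)) (hID : ID.ideal U = Ideal.span {x})
    (hreg : IsSMulRegular Γ(K.homology q, U.1) x) :
    Function.Surjective ((can K ID q).app U.1) ∧ ∀ c : Γ(K.cycles q, U.1), (can K ID q).app U.1 c = 0 ↔
      ∃ w : Γ(K.X (q + 1), U.1),
        (K.iCycles q).app U.1 c = x • (K.d (q + 1) q).app U.1 w := by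
  haveI := hK (q + 1)
  haveI := qcoh_cycles K q hK
  haveI := qcoh_homology K q hK
  set i := q + 1 with hi
  obtain ⟨hπs, hπk⟩ := app_of_isCokernel _ (K.homologyIsCokernel i q (ChainComplex.prev ℕ q)) U
  obtain ⟨hZs, hZk⟩ := K0Sub.app_unit_surjective_and_ker ID.subschemeι (K.cycles q) U
  obtain ⟨hHs, hHk⟩ := K0Sub.app_unit_surjective_and_ker ID.subschemeι (K.homology q) U
  rw [Scheme.IdealSheafData.ker_subschemeι, hID] at hZk hHk
  have hinj := (app_of_isKernel _ (K.cyclesIsKernel q _ rfl) U.1).1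
  have hd : ∀ w, (K.iCycles q).app U.1 ((K.toCycles i q).app U.1 w) = (K.d i q).app U.1 w := fun w => by
    show (K.toCycles i q ≫ K.iCycles q).app U.1 w = _
    rw [K.toCycles_i]
  have hπ0 : ∀ w, (K.homologyπ q).app U.1 ((K.toCycles i q).app U.1 w) = 0 := fun w => by
    show (K.toCycles i q ≫ K.homologyπ q).app U.1 w = _
    rw [K.toCycles_comp_homologyπ]; rfl
  have hfst : ∀ c, (sq1 K ID q).app U.1 ((can K ID q).app U.1 c) =
      (K0Sub.unitApp ID.subschemeι (K.cycles q)).app U.1 c := fun c => by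
    show (can K ID q ≫ sq1 K ID q).app U.1 c = _
    rw [can, pullback.lift_fst]
    rfl
  have hsnd : ∀ c, (sq2 K ID q).app U.1 ((can K ID q).app U.1 c) = (K.homologyπ q).app U.1 c := fun c => by
    show (can K ID q ≫ sq2 K ID q).app U.1 c = _
    rw [can, pullback.lift_snd]
  refine ⟨fun p => ?_, fun c => ⟨fun h => ?_, fun ⟨w, hw⟩ => ?_⟩⟩
  · obtain ⟨z, hz⟩ := hπs ((sq2 K ID q).app U.1 p)
    obtain ⟨w₀, hw₀⟩ := hZs ((sq1 K ID q).app U.1 p)
    have hcond : ((Scheme.Modules.pullback ID.subschemeι ⋙ Scheme.Modules.pushforward ID.subschemeι).map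
        (K.homologyπ q)).app U.1 ((K0Sub.unitApp ID.subschemeι (K.cycles q)).app U.1 w₀) =
        (K0Sub.unitApp ID.subschemeι (K.homology q)).app U.1 ((K.homologyπ q).app U.1 w₀) := by
      show (K0Sub.unitApp ID.subschemeι (K.cycles q) ≫ _).app U.1 w₀ = (K.homologyπ q ≫ _).app U.1 w₀
      rw [← (Scheme.Modules.pullbackPushforwardAdjunction ID.subschemeι).unit.naturality (K.homologyπ q)]
      rfl
    have hp : ((Scheme.Modules.pullback ID.subschemeι ⋙ Scheme.Modules.pushforward ID.subschemeι).map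
        (K.homologyπ q)).app U.1 ((sq1 K ID q).app U.1 p) =
        (K0Sub.unitApp ID.subschemeι (K.homology q)).app U.1 ((sq2 K ID q).app U.1 p) := by
      show (sq1 K ID q ≫ _).app U.1 p = (sq2 K ID q ≫ _).app U.1 p
      rw [pullback.condition]
    have hmem : (K.homologyπ q).app U.1 (w₀ - z) ∈
        Ideal.span {x} • (⊤ : Submodule Γ(X, U.1) Γ(K.homology q, U.1)) := by
      rw [← hHk, map_sub, map_sub, ← hcond, hw₀, hz, hp, sub_self]
    rw [Submodule.ideal_span_singleton_smul, Submodule.mem_smul_pointwise_iff_exists] at hmem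
    obtain ⟨h₂, -, hh₂⟩ := hmem
    obtain ⟨z₂, rfl⟩ := hπs h₂
    refine ⟨w₀ - x • z₂, pullback_app_ext _ _ _ ?_ ?_⟩
    · show (sq1 K ID q).app U.1 _ = (sq1 K ID q).app U.1 _
      rw [hfst, map_sub, hw₀, sub_eq_self, hZk, Submodule.ideal_span_singleton_smul,
        Submodule.mem_smul_pointwise_iff_exists]
      exact ⟨z₂, trivial, rfl⟩
    · show (sq2 K ID q).app U.1 _ = (sq2 K ID q).app U.1 _
      rw [hsnd, map_sub, Scheme.Modules.Hom.app_smul, hh₂, map_sub, sub_sub_cancel, hz]
  · have h1 := congrArg ((sq1 K ID q).app U.1) h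
    have h2 := congrArg ((sq2 K ID q).app U.1) h
    rw [hfst, map_zero, hZk, Submodule.ideal_span_singleton_smul, Submodule.mem_smul_pointwise_iff_exists] at h1
    rw [hsnd, map_zero] at h2
    obtain ⟨z, -, rfl⟩ := h1
    rw [Scheme.Modules.Hom.app_smul] at h2
    have h3 : (K.homologyπ q).app U.1 z = 0 := hreg (show x • _ = x • _ by rw [h2, smul_zero])
    obtain ⟨w, rfl⟩ := hπk z h3
    exact ⟨w, by rw [Scheme.Modules.Hom.app_smul, hd]⟩
  · have hc : c = x • (K.toCycles i q).app U.1 w := hinj (by rw [Scheme.Modules.Hom.app_smul, hd, hw])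
    refine pullback_app_ext _ _ _ ?_ ?_
    · show (sq1 K ID q).app U.1 _ = (sq1 K ID q).app U.1 _
      rw [hfst, map_zero, hZk, Submodule.ideal_span_singleton_smul, Submodule.mem_smul_pointwise_iff_exists]
      exact ⟨_, trivial, hc.symm⟩
    · show (sq2 K ID q).app U.1 _ = (sq2 K ID q).app U.1 _
      rw [hsnd, map_zero, hc, Scheme.Modules.Hom.app_smul, hπ0, smul_zero]

variable (K' : ChainComplex X.Modules ℕ) (hK' : ∀ p, (K'.X p).IsQuasicoherent) (φ : K' ⟶ K)

include hK hK' in
/-- The comparison on one affine open. -/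
theorem exists_local (U : X.affineOpens) (x : Γ(X, U.1)) (hID : ID.ideal U = Ideal.span {x})
    (h₀ : ∀ p, (∃ u : Γ(K'.X p, U.1) ≃ₗ[Γ(X, U.1)] Γ(K.X p, U.1), ∀ z, (φ.f p).app U.1 z = x ^ p • u z) ∧
      IsSMulRegular Γ(K.X p, U.1) x)
    (hreg : IsSMulRegular Γ(K.homology q, U.1) x) (L : X.Modules) (l : Γ(L, U.1)) (hl : IsGen L U.1 l) :
    (∀ c' : Γ(K'.cycles q, U.1), ∃ c : Γ(K.cycles q, U.1),
      (φ.f q).app U.1 ((K'.iCycles q).app U.1 c') = x ^ q • (K.iCycles q).app U.1 c) ∧
    Function.Surjective ((K'.homologyπ q).app U.1) ∧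
    ∃ ψ : Γ(K'.homology q, U.1) ≃ₗ[Γ(X, U.1)] Γ(CohB1.tensorMod (Sq K ID q) L, U.1),
      ∀ c' c, (φ.f q).app U.1 ((K'.iCycles q).app U.1 c') = x ^ q • (K.iCycles q).app U.1 c →
        ψ ((K'.homologyπ q).app U.1 c') = tm ((can K ID q).app U.1 c) l := by
  set i := q + 1 with hi
  set j := (ComplexShape.down ℕ).next q with hj
  obtain ⟨hinj, hker⟩ := app_of_isKernel _ (K.cyclesIsKernel q j hj.symm) U.1
  obtain ⟨hinj', hker'⟩ := app_of_isKernel _ (K'.cyclesIsKernel q j hj.symm) U.1
  haveI := hK' i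
  haveI := qcoh_cycles K' q hK'
  obtain ⟨hπs, hπk⟩ := app_of_isCokernel _ (K'.homologyIsCokernel i q (ChainComplex.prev ℕ q)) U
  choose u hu using fun p => (h₀ p).1
  have hxreg := fun p => (h₀ p).2
  have hphi : ∀ p, Function.Injective ((φ.f p).app U.1) := fun p a b hab => by
    rw [hu, hu] at hab
    exact (u p).injective ((hxreg p).pow p hab)
  have hcomm : ∀ a b (z : Γ(K'.X a, U.1)),
      (K.d a b).app U.1 ((φ.f a).app U.1 z) = (φ.f b).app U.1 ((K'.d a b).app U.1 z) := fun a b z => by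
    show (φ.f a ≫ K.d a b).app U.1 z = (K'.d a b ≫ φ.f b).app U.1 z
    rw [φ.comm]
  have hcyc : ∀ z, (K'.d q j).app U.1 z = 0 ↔ (K.d q j).app U.1 (u q z) = 0 := fun z => by
    have h1 := hcomm q j z
    rw [hu, Scheme.Modules.Hom.app_smul] at h1
    constructor
    · intro h
      rw [h, map_zero] at h1
      exact (hxreg j).pow q (h1.trans (smul_zero _).symm)
    · intro h
      rw [h, smul_zero] at h1
      exact hphi j (h1.symm.trans (map_zero _).symm)
  have hik : ∀ c : Γ(K.cycles q, U.1), (K.d q j).app U.1 ((K.iCycles q).app U.1 c) = 0 := fun c => by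
    show (K.iCycles q ≫ K.d q j).app U.1 c = 0
    rw [K.iCycles_d]; rfl
  have hik' : ∀ c : Γ(K'.cycles q, U.1), (K'.d q j).app U.1 ((K'.iCycles q).app U.1 c) = 0 := fun c => by
    show (K'.iCycles q ≫ K'.d q j).app U.1 c = 0
    rw [K'.iCycles_d]; rfl
  choose a ha using fun c' => hker (u q ((K'.iCycles q).app U.1 c')) ((hcyc _).mp (hik' c'))
  let α : Γ(K'.cycles q, U.1) →ₗ[Γ(X, U.1)] Γ(K.cycles q, U.1) :=
    { toFun := a
      map_add' := fun c d => hinj (by rw [map_add, ha, ha, ha, map_add, map_add])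
      map_smul' := fun r c => hinj (by
        rw [RingHom.id_apply, Scheme.Modules.Hom.app_smul, ha, ha, Scheme.Modules.Hom.app_smul, map_smul]) }
  have hαs : Function.Surjective α := fun c => by
    obtain ⟨c', hc'⟩ := hker' ((u q).symm ((K.iCycles q).app U.1 c))
      ((hcyc _).mpr (by rw [LinearEquiv.apply_symm_apply]; exact hik c))
    exact ⟨c', hinj (by rw [show α c' = a c' from rfl, ha, hc', LinearEquiv.apply_symm_apply])⟩
  have hαφ : ∀ c', (φ.f q).app U.1 ((K'.iCycles q).app U.1 c') = x ^ q • (K.iCycles q).app U.1 (α c') := fun c' => by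
    rw [hu, show α c' = a c' from rfl, ha]
  refine ⟨fun c' => ⟨α c', hαφ c'⟩, hπs, ?_⟩
  obtain ⟨hcs, hck⟩ := can_app K ID q hK U x hID hreg
  let τ : Γ(K'.cycles q, U.1) →ₗ[Γ(X, U.1)] Γ(CohB1.tensorMod (Sq K ID q) L, U.1) :=
    (TensorGen.tmEquiv (Sq K ID q) L hl).toLinearMap ∘ₗ QCoh.appLinear (can K ID q) U.1 ∘ₗ α
  have hτs : Function.Surjective τ :=
    (TensorGen.tmEquiv (Sq K ID q) L hl).surjective.comp (hcs.comp hαs)
  let π' := QCoh.appLinear (K'.homologyπ q) U.1
  have hker_eq : LinearMap.ker π' = LinearMap.ker τ := by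
    ext c'
    rw [LinearMap.mem_ker, LinearMap.mem_ker]
    show (K'.homologyπ q).app U.1 c' = 0 ↔ TensorGen.tmEquiv (Sq K ID q) L hl ((can K ID q).app U.1 (α c')) = 0
    rw [LinearEquiv.map_eq_zero_iff, hck]
    constructor
    · intro h
      obtain ⟨w, rfl⟩ := hπk c' h
      refine ⟨u i w, (hxreg q).pow q ?_⟩
      show x ^ q • _ = x ^ q • _
      rw [← hαφ, show (K'.iCycles q).app U.1 ((K'.toCycles i q).app U.1 w) = (K'.d i q).app U.1 w from by
        show (K'.toCycles i q ≫ K'.iCycles q).app U.1 w = _; rw [K'.toCycles_i], ← hcomm, hu,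
        Scheme.Modules.Hom.app_smul, smul_smul, ← pow_succ]
    · rintro ⟨w, hw⟩
      have h1 : (K'.iCycles q).app U.1 c' = (K'.d i q).app U.1 ((u i).symm w) := hphi q (by
        rw [hαφ, hw, ← hcomm, hu, LinearEquiv.apply_symm_apply, Scheme.Modules.Hom.app_smul, smul_smul,
          ← pow_succ])
      have h2 : c' = (K'.toCycles i q).app U.1 ((u i).symm w) := hinj' (by
        rw [h1]
        show _ = (K'.toCycles i q ≫ K'.iCycles q).app U.1 _
        rw [K'.toCycles_i])
      rw [h2]
      show (K'.toCycles i q ≫ K'.homologyπ q).app U.1 _ = _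
      rw [K'.toCycles_comp_homologyπ]; rfl
  refine ⟨(π'.quotKerEquivOfSurjective hπs).symm ≪≫ₗ Submodule.quotEquivOfEq _ _ hker_eq ≪≫ₗ
    τ.quotKerEquivOfSurjective hτs, fun c' c hc => ?_⟩
  have hceq : c = α c' := hinj ((hxreg q).pow q (hc.symm.trans (hαφ c')))
  subst hceq
  have e : (π'.quotKerEquivOfSurjective hπs).symm ((K'.homologyπ q).app U.1 c') = Submodule.Quotient.mk c' := by
    rw [LinearEquiv.symm_apply_eq]; rfl
  show τ.quotKerEquivOfSurjective hτs (Submodule.quotEquivOfEq _ _ hker_eq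
    ((π'.quotKerEquivOfSurjective hπs).symm _)) = _
  rw [e]
  rfl

end Square

end GrothLib.Koszul12
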