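import Groth.Agent.Lib.Koszul12.LciReg
import Groth.Agent.Lib.ASBun21.TautFree
import Groth.Prelude.Def_ExtPow2

/-!
# Koszul complexes of several copies of one divisor
-/

set_option autoImplicit false
set_option linter.all false
set_option maxHeartbeats 1000000
set_option backward.isDefEq.respectTransparency false
set_option backward.isDefEq.respectTransparency.types false
universe u v

open CategoryTheory CategoryTheory.Limits AlgebraicGeometry TopologicalSpace Opposite KoszSh

noncomputable section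

namespace GrothLib.Koszul12

open GrothLib.InvExt (mres IsGen)
open GrothLib.IdealModSec (val val_injective)
open GrothLib.VA (tm)
open GrothLib.BlowUp (CartierOn)

section Algebra

variable {R : Type u} [CommRing R] {M : Type v} [AddCommGroup M] [Module R M]
  {N : Type v} [AddCommGroup N] [Module R N]
  (φ : Module.Dual R M) (e : M) (i : N →ₗ[R] M) (p : M →ₗ[R] N)
  (hp : p.comp i = LinearMap.id) (hi : φ.comp i = 0) (hip : i.comp p = LinearMap.id - φ.smulRight e)

include hp in
theorem map_i_injective : Function.Injective (ExteriorAlgebra.map i) := fun x y h => by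
  have h1 := congrArg (ExteriorAlgebra.map p) h
  rw [← AlgHom.comp_apply, ← AlgHom.comp_apply, ExteriorAlgebra.map_comp_map, hp] at h1
  simpa using h1

include hi in
theorem contract_map_i (y : ExteriorAlgebra R N) :
    CliffordAlgebra.contractLeft φ (ExteriorAlgebra.map i y) = 0 := by
  rw [contract_map, hi, map_zero, LinearMap.zero_apply, map_zero]

include hip in
theorem map_i_map_p (y : ExteriorAlgebra R M) (hy : CliffordAlgebra.contractLeft φ y = 0) :
    ExteriorAlgebra.map i (ExteriorAlgebra.map p y) = y := by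
  rw [← AlgHom.comp_apply, ExteriorAlgebra.map_comp_map, hip, map_sub_smulRight, hy, mul_zero, sub_zero]

end Algebra

variable {X : Scheme.{u}} {n : ℕ} (J : X.IdealSheafData)

/-- The sum of the copies. -/
abbrev cop (n : ℕ) : X.Modules := ∐ fun _ : Fin n => ClSub.idealMod J

/-- The cosection of the copies. -/
abbrev copForm (n : ℕ) : cop J n ⟶ Coh.structureModule X :=
  Limits.Sigma.desc fun _ : Fin n => ClSub.idealModι J

/-- The differences of the copies of a section. -/
def diff (U : X.Opens) (e : Γ(ClSub.idealMod J, U)) (t : Fin (n - 1)) : Γ(cop J n, U) :=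
  (Limits.Sigma.ι (fun _ : Fin n => ClSub.idealMod J) ⟨t.1, by have := t.2; omega⟩).app U e -
    (Limits.Sigma.ι (fun _ : Fin n => ClSub.idealMod J) ⟨n - 1, by have := t.2; omega⟩).app U e

/-- The map of the free module defined by a section. -/
def iMap (U : X.Opens) (e : Γ(ClSub.idealMod J, U)) :
    Γ(FlatMod.freeMod X (n - 1), U) →ₗ[Γ(X, U)] Γ(cop J n, U) :=
  (ASBun21.stdBasis X U).constr Γ(X, U) (diff J U e)

theorem iMap_std (U : X.Opens) (e : Γ(ClSub.idealMod J, U)) (t : Fin (n - 1)) :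
    iMap J U e (ASBun21.std X t U) = diff J U e t := by
  rw [← ASBun21.stdBasis_apply, iMap, Module.Basis.constr_basis]

theorem iMap_smul (U : X.Opens) (c : Γ(X, U)) (e : Γ(ClSub.idealMod J, U)) :
    iMap (n := n) J U (c • e) = c • iMap J U e := by
  refine (ASBun21.stdBasis X U).ext fun t => ?_
  rw [LinearMap.smul_apply, ASBun21.stdBasis_apply, iMap_std, iMap_std, diff, diff, Scheme.Modules.Hom.app_smul,
    Scheme.Modules.Hom.app_smul, smul_sub]

theorem mres_iMap {U V : X.Opens} (h : V ≤ U) (e : Γ(ClSub.idealMod J, U))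
    (v : Γ(FlatMod.freeMod X (n - 1), U)) :
    (cop J n).presheaf.map (homOfLE h).op (iMap J U e v) =
      iMap J V (mres _ h e) ((FlatMod.freeMod X (n - 1)).presheaf.map (homOfLE h).op v) := by
  rw [ASBun21.eq_sum_std X U v, map_sum, map_sum, map_sum, map_sum]
  refine Finset.sum_congr rfl fun t _ => ?_
  rw [map_smul, Scheme.Modules.map_smul, Scheme.Modules.map_smul, map_smul, iMap_std]
  congr 1
  have h1 : (FlatMod.freeMod X (n - 1)).presheaf.map (homOfLE h).op (ASBun21.std X t U) = ASBun21.std X t V :=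
    ASBun21.mres_std X t h
  rw [h1, iMap_std, diff, diff, map_sub, QCoh.map_app, QCoh.map_app]

variable {J}

/-- The local normal form of the copies. -/
theorem exists_split (U : X.Opens) (e : Γ(ClSub.idealMod J, U)) (he : IsGen (ClSub.idealMod J) U e) :
    ∃ (φ : Module.Dual Γ(X, U) Γ(cop J n, U)) (v : Γ(cop J n, U))
      (p : Γ(cop J n, U) →ₗ[Γ(X, U)] Γ(FlatMod.freeMod X (n - 1), U)),
      KoszSh.secForm (copForm J n) U = val J U e • φ ∧ p.comp (iMap J U e) = LinearMap.id ∧
        φ.comp (iMap J U e) = 0 ∧ (iMap J U e).comp p = LinearMap.id - φ.smulRight v ∧ (1 ≤ n → φ v = 1) := by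
  classical
  let b := (isFrame_sigma (fun _ : Fin n => ClSub.idealMod J) (fun _ => e) (fun _ => he)).basis U le_rfl
  have hb : ∀ j, b j = (Limits.Sigma.ι (fun _ : Fin n => ClSub.idealMod J) j).app U e := fun j => by
    simp only [b]
    rw [FinCov.IsFrame.basis_apply]
    exact InvExt.mres_self _ _
  let φ : Module.Dual Γ(X, U) Γ(cop J n, U) := b.constr Γ(X, U) fun _ => 1
  let v : Γ(cop J n, U) := if h : 0 < n then b ⟨n - 1, by omega⟩ else 0
  let p : Γ(cop J n, U) →ₗ[Γ(X, U)] Γ(FlatMod.freeMod X (n - 1), U) :=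
    b.constr Γ(X, U) fun j => if h : j.1 < n - 1 then ASBun21.std X ⟨j.1, h⟩ U else 0
  have hφ : ∀ j, φ (b j) = 1 := fun j => b.constr_basis Γ(X, U) _ j
  have hdiff : ∀ t : Fin (n - 1), iMap J U e (ASBun21.std X t U) = b ⟨t.1, by have := t.2; omega⟩ - b ⟨n - 1, by have := t.2; omega⟩ := fun t => by
    rw [iMap_std, hb, hb]; rfl
  refine ⟨φ, v, p, b.ext fun j => ?_, (ASBun21.stdBasis X U).ext fun t => ?_,
    (ASBun21.stdBasis X U).ext fun t => ?_, b.ext fun j => ?_, fun hn => ?_⟩
  · rw [LinearMap.smul_apply, hφ, smul_eq_mul, mul_one, hb]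
    show OmegaSh.fnSect X U ((Limits.Sigma.ι (fun _ : Fin n => ClSub.idealMod J) j ≫ copForm J n).app U e) = _
    rw [Sigma.ι_desc]
    rfl
  · have hlast : ¬((⟨n - 1, by have := t.2; omega⟩ : Fin n).1 < n - 1) := lt_irrefl _
    rw [ASBun21.stdBasis_apply, LinearMap.comp_apply, hdiff, map_sub, LinearMap.id_apply]
    simp only [p, Module.Basis.constr_basis]
    rw [dif_pos t.2, dif_neg hlast, sub_zero]
  · rw [ASBun21.stdBasis_apply, LinearMap.comp_apply, hdiff, map_sub, hφ, hφ, sub_self, LinearMap.zero_apply]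
  · rw [LinearMap.comp_apply, LinearMap.sub_apply, LinearMap.id_apply, LinearMap.smulRight_apply, hφ, one_smul]
    simp only [p, v, Module.Basis.constr_basis, dif_pos (show 0 < n by have := j.2; omega)]
    by_cases h : j.1 < n - 1
    · rw [dif_pos h, hdiff]
    · rw [dif_neg h, map_zero, show j = ⟨n - 1, by omega⟩ from Fin.ext (by have := j.2; simp only; omega), sub_self]
  · simp only [v, dif_pos (show 0 < n by omega), hφ]

variable {q : ℕ} {L : X.Modules}
  (lL : ∀ U : X.affineOpens, Γ(L, U.1) ≃ₗ[Γ(X, U.1)] ↥(⋀[Γ(X, U.1)]^q Γ(FlatMod.freeMod X (n - 1), U.1)))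
  (hlL : ∀ (U V : X.affineOpens) (h : V.1 ≤ U.1) (e : Fin q → Γ(FlatMod.freeMod X (n - 1), U.1)),
    L.presheaf.map (homOfLE h).op ((lL U).symm (exteriorPower.ιMulti _ q e)) =
      (lL V).symm (exteriorPower.ιMulti _ q (fun j => (FlatMod.freeMod X (n - 1)).presheaf.map (homOfLE h).op (e j))))
  (C : KoszSh.Cx (cop J n) (copForm J n))

/-- The cycle attached to a section of the exterior power. -/
def cyc (U : X.affineOpens) (e : Γ(ClSub.idealMod J, U.1)) : Γ(L, U.1) →ₗ[Γ(X, U.1)] Γ(C.K.X q, U.1) :=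
  (C.loc q U).symm.toLinearMap ∘ₗ exteriorPower.map q (iMap J U.1 e) ∘ₗ (lL U).toLinearMap

theorem cyc_apply (U : X.affineOpens) (e : Γ(ClSub.idealMod J, U.1)) (v : Fin q → Γ(FlatMod.freeMod X (n - 1), U.1)) :
    cyc lL C U e ((lL U).symm (exteriorPower.ιMulti _ q v)) =
      (C.loc q U).symm (exteriorPower.ιMulti _ q fun j => iMap J U.1 e (v j)) := by
  show (C.loc q U).symm (exteriorPower.map q (iMap J U.1 e) (lL U ((lL U).symm _))) = _
  rw [LinearEquiv.apply_symm_apply, exteriorPower.map_apply_ιMulti]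
  rfl

theorem cyc_smul (U : X.affineOpens) (c : Γ(X, U.1)) (e : Γ(ClSub.idealMod J, U.1)) (l : Γ(L, U.1)) :
    cyc lL C U (c • e) l = c ^ q • cyc lL C U e l := by
  obtain ⟨w, rfl⟩ := (lL U).symm.surjective l
  have hw : w ∈ Submodule.span Γ(X, U.1) (Set.range (exteriorPower.ιMulti Γ(X, U.1) q (M := Γ(FlatMod.freeMod X (n - 1), U.1)))) := by
    rw [exteriorPower.ιMulti_span]; trivial
  induction hw using Submodule.span_induction with
  | mem y hy =>
    obtain ⟨v, rfl⟩ := hy
    rw [cyc_apply, cyc_apply, ← map_smul]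
    congr 1
    simp only [iMap_smul, LinearMap.smul_apply]
    rw [(exteriorPower.ιMulti Γ(X, U.1) q (M := Γ(cop J n, U.1))).toMultilinearMap.map_smul_univ (fun _ => c)
      (fun j => iMap J U.1 e (v j)) |> fun h => show exteriorPower.ιMulti Γ(X, U.1) q (fun j => c • iMap J U.1 e (v j)) = _ from h,
      Fin.prod_const]
    rfl
  | zero => simp
  | add y z _ _ hy hz => simp only [map_add, smul_add, hy, hz]
  | smul r y _ hy => rw [map_smul, map_smul, map_smul, hy, smul_comm]

include hlL in
theorem mres_cyc (U V : X.affineOpens) (h : V.1 ≤ U.1) (e : Γ(ClSub.idealMod J, U.1)) (l : Γ(L, U.1)) :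
    (C.K.X q).presheaf.map (homOfLE h).op (cyc lL C U e l) =
      cyc lL C V (mres _ h e) (L.presheaf.map (homOfLE h).op l) := by
  obtain ⟨w, rfl⟩ := (lL U).symm.surjective l
  have hw : w ∈ Submodule.span Γ(X, U.1) (Set.range (exteriorPower.ιMulti Γ(X, U.1) q (M := Γ(FlatMod.freeMod X (n - 1), U.1)))) := by
    rw [exteriorPower.ιMulti_span]; trivial
  induction hw using Submodule.span_induction with
  | mem y hy =>
    obtain ⟨v, rfl⟩ := hy
    rw [hlL U V h v, cyc_apply, cyc_apply]
    refine (C.loc_res q U V h _).trans ?_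
    congr 2
    funext j
    exact mres_iMap J h e (v j)
  | zero => simp
  | add y z _ _ hy hz => simp only [map_add, hy, hz]
  | smul r y _ hy => rw [map_smul, map_smul, Scheme.Modules.map_smul, Scheme.Modules.map_smul, map_smul, hy]

/-- Cycles are exterior powers of the differences; they are boundaries up to the equation. -/
theorem exists_cyc_equiv (U : X.affineOpens) (e : Γ(ClSub.idealMod J, U.1)) (he : IsGen (ClSub.idealMod J) U.1 e)
    (hnz : val J U.1 e ∈ nonZeroDivisors Γ(X, U.1)) :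
    ∃ G : Γ(L, U.1) ≃ₗ[Γ(X, U.1)] Γ(C.K.cycles q, U.1),
      (∀ l, (C.K.iCycles q).app U.1 (G l) = cyc lL C U e l) ∧
      ∀ (w : Γ(C.K.X (q + 1), U.1)), ∃ l, (C.K.d (q + 1) q).app U.1 w = cyc lL C U e (val J U.1 e • l) ∧
        (1 ≤ n → ∀ l', ∃ w', (C.K.d (q + 1) q).app U.1 w' = cyc lL C U e (val J U.1 e • l')) := by
  obtain ⟨φ, v, p, hform, hp, hi, hip, hone⟩ := exists_split (n := n) U.1 e he
  set a := val J U.1 e
  have hdual : ∀ z : ExteriorAlgebra Γ(X, U.1) Γ(cop J n, U.1), CliffordAlgebra.contractLeft (KoszSh.secForm (copForm J n) U.1) z =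
      a • CliffordAlgebra.contractLeft φ z := fun z => by rw [hform, map_smul]; rfl
  have hfree : ∀ z : ↥(⋀[Γ(X, U.1)]^q Γ(cop J n, U.1)), ∀ z' : ↥(⋀[Γ(X, U.1)]^q Γ(cop J n, U.1)),
      a • z.1 = a • z'.1 → z.1 = z'.1 := by
    let b := (isFrame_sigma (fun _ : Fin n => ClSub.idealMod J) (fun _ => e) (fun _ => he)).basis U.1 le_rfl
    haveI : Module.Free Γ(X, U.1) Γ(cop J n, U.1) := Module.Free.of_basis b
    let β := Module.Free.chooseBasis Γ(X, U.1) ↥(⋀[Γ(X, U.1)]^q Γ(cop J n, U.1))
    intro z z' h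
    refine congrArg Subtype.val (β.repr.injective (Finsupp.ext fun i => ?_))
    have h1 := congrArg (fun w => β.repr w i) (Subtype.ext h : a • z = a • z')
    simp only [map_smul, Finsupp.smul_apply, smul_eq_mul] at h1
    exact (mul_cancel_left_mem_nonZeroDivisors hnz).mp h1
  obtain ⟨hinj, hker⟩ := app_of_isKernel _ (C.K.cyclesIsKernel q _ rfl) U.1
  -- sections of the exterior power give cycles
  have hloc : ∀ l, (C.loc q U (cyc lL C U e l)).1 = ExteriorAlgebra.map (iMap J U.1 e) (lL U l).1 := fun l => by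
    show (C.loc q U ((C.loc q U).symm (exteriorPower.map q (iMap J U.1 e) (lL U l)))).1 = _
    rw [LinearEquiv.apply_symm_apply]
    obtain ⟨w, hw⟩ : ∃ w, w = lL U l := ⟨_, rfl⟩
    rw [← hw]
    clear hw
    have hw : w ∈ Submodule.span Γ(X, U.1) (Set.range (exteriorPower.ιMulti Γ(X, U.1) q (M := Γ(FlatMod.freeMod X (n - 1), U.1)))) := by
      rw [exteriorPower.ιMulti_span]; trivial
    induction hw using Submodule.span_induction with
    | mem y hy =>
      obtain ⟨v, rfl⟩ := hy
      rw [exteriorPower.map_apply_ιMulti, exteriorPower.ιMulti_apply_coe, exteriorPower.ιMulti_apply_coe,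
        ExteriorAlgebra.map_apply_ιMulti]
    | zero => simp
    | add y z _ _ hy hz => simp only [map_add, Submodule.coe_add, hy, hz]
    | smul r y _ hy => rw [map_smul, Submodule.coe_smul, Submodule.coe_smul, map_smul, hy]
  have hdz : ∀ z : Γ(C.K.X q, U.1), (C.K.d q ((ComplexShape.down ℕ).next q)).app U.1 z = 0 ↔
      CliffordAlgebra.contractLeft φ (C.loc q U z).1 = 0 := by
    intro z
    cases q with
    | zero =>
      have h0 : C.K.d 0 ((ComplexShape.down ℕ).next 0) = 0 := C.K.shape _ _ (by simp)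
      rw [h0]
      exact iff_of_true rfl ((GrothLib.KoszulExt.contract_mem φ (C.loc 0 U z).2).1 rfl)
    | succ q =>
      rw [show (ComplexShape.down ℕ).next (q + 1) = q from ChainComplex.next_nat_succ q]
      constructor
      · intro h
        have h1 := d_eq_contract C q U (C.loc (q + 1) U z)
        rw [LinearEquiv.symm_apply_apply, h, map_zero, hdual] at h1
        -- cancel the equation
        let b := (isFrame_sigma (fun _ : Fin n => ClSub.idealMod J) (fun _ => e) (fun _ => he)).basis U.1 le_rfl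
        haveI : Module.Free Γ(X, U.1) Γ(cop J n, U.1) := Module.Free.of_basis b
        let β := Module.Free.chooseBasis Γ(X, U.1) ↥(⋀[Γ(X, U.1)]^q Γ(cop J n, U.1))
        let y : ↥(⋀[Γ(X, U.1)]^q Γ(cop J n, U.1)) :=
          ⟨CliffordAlgebra.contractLeft φ (C.loc (q + 1) U z).1, (GrothLib.KoszulExt.contract_mem φ (C.loc (q + 1) U z).2).2 q rfl⟩
        have hy : a • y = 0 := Subtype.ext h1.symm
        have : y = 0 := β.repr.injective (Finsupp.ext fun i => by
          have h2 := congrArg (fun w => β.repr w i) hy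
          simp only [map_smul, Finsupp.smul_apply, smul_eq_mul, map_zero, Finsupp.zero_apply] at h2 ⊢
          exact (mul_left_mem_nonZeroDivisors_eq_zero_iff hnz).1 h2)
        exact congrArg Subtype.val this
      · intro h
        refine (C.loc q U).injective (Subtype.ext ?_)
        rw [map_zero]
        have h1 := d_eq_contract C q U (C.loc (q + 1) U z)
        rw [LinearEquiv.symm_apply_apply, hdual, h, smul_zero] at h1
        exact h1
  choose G hG using fun l => hker (cyc lL C U e l) ((hdz _).2 (by rw [hloc]; exact contract_map_i φ _ hi _))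
  have hGinj : Function.Injective G := fun l l' h => by
    have h1 : cyc lL C U e l = cyc lL C U e l' := (hG l).symm.trans ((congrArg _ h).trans (hG l'))
    have h2 := congrArg (fun z => (C.loc q U z).1) h1
    simp only [hloc] at h2
    exact (lL U).injective (Subtype.ext (map_i_injective _ p hp h2))
  have hback : ∀ z : ↥(⋀[Γ(X, U.1)]^q Γ(cop J n, U.1)), CliffordAlgebra.contractLeft φ z.1 = 0 →
      ∃ l, cyc lL C U e l = (C.loc q U).symm z := fun z hz => by
    refine ⟨(lL U).symm ⟨ExteriorAlgebra.map p z.1, map_mem p z.2⟩, (C.loc q U).injective (Subtype.ext ?_)⟩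
    rw [hloc, LinearEquiv.apply_symm_apply, LinearEquiv.apply_symm_apply]
    exact map_i_map_p φ v _ p hip z.1 hz
  have hGsurj : Function.Surjective G := fun c => by
    have h0 : (C.K.d q ((ComplexShape.down ℕ).next q)).app U.1 ((C.K.iCycles q).app U.1 c) = 0 := by
      show (C.K.iCycles q ≫ C.K.d q _).app U.1 c = 0
      rw [C.K.iCycles_d]; rfl
    obtain ⟨l, hl⟩ := hback _ ((hdz _).1 h0)
    exact ⟨l, hinj (by rw [hG, hl, LinearEquiv.symm_apply_apply])⟩
  let Gl : Γ(L, U.1) →ₗ[Γ(X, U.1)] Γ(C.K.cycles q, U.1) :=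
    { toFun := G
      map_add' := fun l l' => hinj (by rw [map_add, hG, hG, hG, map_add])
      map_smul' := fun r l => hinj (by rw [RingHom.id_apply, Scheme.Modules.Hom.app_smul, hG, hG, map_smul]) }
  refine ⟨LinearEquiv.ofBijective Gl ⟨hGinj, hGsurj⟩, hG, fun w => ?_⟩
  let y : ↥(⋀[Γ(X, U.1)]^q Γ(cop J n, U.1)) :=
    ⟨CliffordAlgebra.contractLeft φ (C.loc (q + 1) U w).1, (GrothLib.KoszulExt.contract_mem φ (C.loc (q + 1) U w).2).2 q rfl⟩
  obtain ⟨l, hl⟩ := hback y (CliffordAlgebra.contractLeft_contractLeft φ _)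
  refine ⟨l, (C.loc q U).injective (Subtype.ext ?_), fun hn l' => ?_⟩
  · have h1 := d_eq_contract C q U (C.loc (q + 1) U w)
    rw [LinearEquiv.symm_apply_apply, hdual] at h1
    rw [map_smul, hl, map_smul, LinearEquiv.apply_symm_apply, Submodule.coe_smul]
    exact h1
  · refine ⟨(C.loc (q + 1) U).symm ⟨ExteriorAlgebra.ι _ v * (C.loc q U (cyc lL C U e l')).1,
      GrothLib.KoszulExt.ι_mul_mem v (C.loc q U _).2⟩, (C.loc q U).injective (Subtype.ext ?_)⟩
    rw [d_eq_contract, hdual, map_smul, map_smul, Submodule.coe_smul]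
    congr 1
    show CliffordAlgebra.contractLeft φ (ExteriorAlgebra.ι _ v * (C.loc q U (cyc lL C U e l')).1) = _
    erw [CliffordAlgebra.contractLeft_ι_mul]
    rw [hone hn, one_smul, hloc, contract_map_i φ _ hi, mul_zero, sub_zero]

/-- The sections of the cycles as sections of the exterior power. -/
def cycEquiv (U : X.affineOpens) (e : Γ(ClSub.idealMod J, U.1)) (he : IsGen (ClSub.idealMod J) U.1 e)
    (hnz : val J U.1 e ∈ nonZeroDivisors Γ(X, U.1)) :
    Γ(L, U.1) ≃ₗ[Γ(X, U.1)] Γ(C.K.cycles q, U.1) :=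
  (exists_cyc_equiv lL C U e he hnz).choose

theorem cycEquiv_i (U : X.affineOpens) (e : Γ(ClSub.idealMod J, U.1)) (he : IsGen (ClSub.idealMod J) U.1 e)
    (hnz : val J U.1 e ∈ nonZeroDivisors Γ(X, U.1)) (l : Γ(L, U.1)) :
    (C.K.iCycles q).app U.1 (cycEquiv lL C U e he hnz l) = cyc lL C U e l :=
  (exists_cyc_equiv lL C U e he hnz).choose_spec.1 l

include hlL in
/-- Restriction and change of the generator. -/
theorem mres_cycEquiv (U V : X.affineOpens) (h : V.1 ≤ U.1) (e : Γ(ClSub.idealMod J, U.1))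
    (he : IsGen (ClSub.idealMod J) U.1 e) (hnz : val J U.1 e ∈ nonZeroDivisors Γ(X, U.1))
    (e' : Γ(ClSub.idealMod J, V.1)) (he' : IsGen (ClSub.idealMod J) V.1 e')
    (hnz' : val J V.1 e' ∈ nonZeroDivisors Γ(X, V.1)) (c : Γ(X, V.1)) (hc : mres _ h e = c • e') (l : Γ(L, U.1)) :
    (C.K.cycles q).presheaf.map (homOfLE h).op (cycEquiv lL C U e he hnz l) =
      c ^ q • cycEquiv lL C V e' he' hnz' (L.presheaf.map (homOfLE h).op l) := by
  refine (app_of_isKernel _ (C.K.cyclesIsKernel q _ rfl) V.1).1 ?_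
  rw [Scheme.Modules.Hom.app_smul, cycEquiv_i, ← QCoh.map_app, cycEquiv_i, mres_cyc lL hlL, hc, cyc_smul]

end GrothLib.Koszul12
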