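import Groth.Agent.Lib.Koszul12.Copies
import Groth.Agent.Lib.OmegaAff.Basic
import Groth.Agent.Lib.VA.Tensor
import Groth.Agent.Lib.Cohom.Serre

/-!
# Cycles and homology of Koszul complexes of several copies of one divisor
-/

set_option autoImplicit false
set_option linter.all false
set_option maxHeartbeats 1000000
set_option backward.isDefEq.respectTransparency false
set_option backward.isDefEq.respectTransparency.types false
universe u v

open CategoryTheory CategoryTheory.Limits AlgebraicGeometry TopologicalSpace Opposite KoszSh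

noncomputable section

namespace GrothLib.Koszul12

open GrothLib.InvExt (mres IsGen)
open GrothLib.IdealModSec (val)
open GrothLib.VA (tm)
open GrothLib.BlowUp (CartierOn)

variable {X : Scheme.{u}} {n : ℕ} {I ID : X.IdealSheafData} {q : ℕ} {L : X.Modules}
  (lL : ∀ U : X.affineOpens, Γ(L, U.1) ≃ₗ[Γ(X, U.1)] ↥(⋀[Γ(X, U.1)]^q Γ(FlatMod.freeMod X (n - 1), U.1)))
  (hlL : ∀ (U V : X.affineOpens) (h : V.1 ≤ U.1) (e : Fin q → Γ(FlatMod.freeMod X (n - 1), U.1)),
    L.presheaf.map (homOfLE h).op ((lL U).symm (exteriorPower.ιMulti _ q e)) =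
      (lL V).symm (exteriorPower.ιMulti _ q (fun j => (FlatMod.freeMod X (n - 1)).presheaf.map (homOfLE h).op (e j))))
  (C : KoszSh.Cx (cop I n) (copForm I n))

include hlL in
theorem nonempty_cycles_iso (hI : _root_.BlowUp.IsEffCartierIdeal I) :
    Nonempty (C.K.cycles q ≅ CohB1.tensorMod L (CohB1.tensorPow (ClSub.idealMod I) q)) := by
  let ι := {U : X.affineOpens // CartierOn I U}
  let B : ι → X.Opens := fun U => U.1.1
  have hB : Opens.IsBasis (Set.range B) := by
    rw [Opens.isBasis_iff_nbhd]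
    intro W x hx
    obtain ⟨V, hxV, hVW, hV⟩ := GrothLib.BlowUp.exists_cartierOn_le hI hx
    exact ⟨_, ⟨⟨V, hV⟩, rfl⟩, hxV, hVW⟩
  choose e henz heid heg using fun U : ι => exists_gen U.2
  let ψ := fun U : ι => (cycEquiv lL C U.1 (e U) (heg U) (henz U)).symm.trans
    (TensorGen.tmEquiv L _ (TensorGen.isGen_pw _ (heg U) q))
  refine ⟨(AffHom.exists_iso_basis hB ψ fun U V h z => ?_).choose⟩
  obtain ⟨l, rfl⟩ := (cycEquiv lL C U.1 (e U) (heg U) (henz U)).surjective z
  obtain ⟨c, hc⟩ := (heg V).exists_smul_eq le_rfl (mres _ h (e U))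
  rw [InvExt.mres_self] at hc
  rw [mres_cycEquiv lL hlL C U.1 V.1 h _ _ _ _ (heg V) (henz V) c hc, map_smul]
  show mres _ h (tm ((cycEquiv lL C U.1 (e U) (heg U) (henz U)).symm (cycEquiv lL C U.1 (e U) (heg U) (henz U) l))
      (TensorGen.pw _ (e U) q)) =
    c ^ q • tm ((cycEquiv lL C V.1 (e V) (heg V) (henz V)).symm (cycEquiv lL C V.1 (e V) (heg V) (henz V)
      (L.presheaf.map (homOfLE h).op l))) (TensorGen.pw _ (e V) q)
  rw [LinearEquiv.symm_apply_apply, LinearEquiv.symm_apply_apply]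
  rw [VA.mres_tm, TensorGen.mres_pw, hc, TensorGen.pw_smul, VA.tm_smul_right]

variable (CD : KoszSh.Cx (cop ID n) (copForm ID n))

include hlL in
theorem nonempty_homology_iso (hn : 1 ≤ n) (hI : _root_.BlowUp.IsEffCartierIdeal I)
    (hD : _root_.BlowUp.IsEffCartierIdeal ID) :
    Nonempty ((Scheme.Modules.pullback ID.subschemeι ⋙ Scheme.Modules.pushforward ID.subschemeι).obj
        (CohB1.tensorMod (C.K.cycles q) (CohB1.tensorPow (ClSub.idealMod ID) q)) ≅
      CohB1.tensorMod (CD.K.homology q) (CohB1.tensorPow (ClSub.idealMod I) q)) := by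
  have hq : ∀ {J : X.IdealSheafData}, _root_.BlowUp.IsEffCartierIdeal J → ∀ (C : KoszSh.Cx (cop J n) (copForm J n)) p,
      (C.K.X p).IsQuasicoherent := fun {J} hJ C p =>
    Euler.isQuasicoherent_of_isFinLocFree
      (ExtPowX.isFinLocFree_extPow (isFinLocFree_sigma (fun _ => J) fun _ => hJ) (C.isExtPow p))
  have hqp : ∀ k, (CohB1.tensorPow (ClSub.idealMod ID) k).IsQuasicoherent := fun k => by
    induction k with
    | zero => exact Cohom.isQuasicoherent_structureModule X
    | succ k ih => exact VA.isQCoh_tensor ih (OmegaAff.isQuasicoherent_idealMod ID)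
  let M := CohB1.tensorMod (C.K.cycles q) (CohB1.tensorPow (ClSub.idealMod ID) q)
  haveI : M.IsQuasicoherent := VA.isQCoh_tensor (qcoh_cycles C.K q (hq hI C)) (hqp q)
  let ι := {U : X.affineOpens // CartierOn I U ∧ CartierOn ID U}
  let B : ι → X.Opens := fun U => U.1.1
  have hB : Opens.IsBasis (Set.range B) := by
    rw [Opens.isBasis_iff_nbhd]
    intro W x hx
    obtain ⟨V, hxV, hVW, hV⟩ := GrothLib.BlowUp.exists_cartierOn_le hI hx
    obtain ⟨V', hxV', hV'V, hV'⟩ := GrothLib.BlowUp.exists_cartierOn_le hD hxV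
    exact ⟨_, ⟨⟨V', hV.mono hV'V, hV'⟩, rfl⟩, hxV', hV'V.trans hVW⟩
  choose e henz heid heg using fun U : ι => exists_gen U.2.1
  choose d hdnz hdid hdg using fun U : ι => exists_gen U.2.2
  let a := fun U : ι => (QCoh.appLinear (K0Sub.unitApp ID.subschemeι M) U.1.1).comp
    ((cycEquiv lL C U.1 (e U) (heg U) (henz U)).trans
      (TensorGen.tmEquiv (C.K.cycles q) _ (TensorGen.isGen_pw _ (hdg U) q))).toLinearMap
  let b := fun U : ι => (TensorGen.tmEquiv (CD.K.homology q) _ (TensorGen.isGen_pw _ (heg U) q)).toLinearMap.comp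
    ((QCoh.appLinear (CD.K.homologyπ q) U.1.1).comp (cycEquiv lL CD U.1 (d U) (hdg U) (hdnz U)).toLinearMap)
  have hk : ∀ U : ι, Function.Surjective (a U) ∧ Function.Surjective (b U) ∧ LinearMap.ker (a U) = LinearMap.ker (b U) := by
    intro U
    obtain ⟨hus, huk⟩ := K0Sub.app_unit_surjective_and_ker ID.subschemeι M U.1
    haveI := hq hD CD (q + 1)
    haveI := qcoh_cycles CD.K q (hq hD CD)
    obtain ⟨hπs, hπk⟩ := app_of_isCokernel _ (CD.K.homologyIsCokernel (q + 1) q (ChainComplex.prev ℕ q)) U.1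
    rw [Scheme.IdealSheafData.ker_subschemeι, hdid U] at huk
    refine ⟨?_, ?_, ?_⟩
    · simp only [a, LinearMap.coe_comp, LinearEquiv.coe_coe]
      exact hus.comp (LinearEquiv.surjective _)
    · simp only [b, LinearMap.coe_comp, LinearEquiv.coe_coe]
      exact (LinearEquiv.surjective _).comp (hπs.comp (LinearEquiv.surjective _))
    ext l
    simp only [LinearMap.mem_ker, a, b, LinearMap.comp_apply, LinearEquiv.coe_coe, LinearEquiv.map_eq_zero_iff]
    obtain ⟨-, hexact⟩ := (exists_cyc_equiv lL CD U.1 (d U) (hdg U) (hdnz U)).choose_spec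
    have hinj := (app_of_isKernel _ (CD.K.cyclesIsKernel q _ rfl) U.1.1).1
    have hd : ∀ w, (CD.K.iCycles q).app U.1.1 ((CD.K.toCycles (q + 1) q).app U.1.1 w) =
        (CD.K.d (q + 1) q).app U.1.1 w := fun w => by
      show (CD.K.toCycles (q + 1) q ≫ CD.K.iCycles q).app U.1.1 w = _
      rw [CD.K.toCycles_i]
    have hA : (QCoh.appLinear (K0Sub.unitApp ID.subschemeι M) U.1.1)
        (((cycEquiv lL C U.1 (e U) (heg U) (henz U)).trans
          (TensorGen.tmEquiv (C.K.cycles q) _ (TensorGen.isGen_pw _ (hdg U) q))) l) = 0 ↔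
        ∃ l', l = val ID U.1.1 (d U) • l' := by
      refine (huk _).trans ?_
      rw [Submodule.ideal_span_singleton_smul, Submodule.mem_smul_pointwise_iff_exists]
      constructor
      · rintro ⟨m, -, hm⟩
        obtain ⟨l', rfl⟩ := ((cycEquiv lL C U.1 (e U) (heg U) (henz U)).trans
          (TensorGen.tmEquiv (C.K.cycles q) _ (TensorGen.isGen_pw _ (hdg U) q))).surjective m
        rw [← map_smul] at hm
        exact ⟨l', (LinearEquiv.injective _ hm).symm⟩
      · rintro ⟨l', rfl⟩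
        exact ⟨_, trivial, (map_smul _ _ _).symm⟩
    refine hA.trans ⟨?_, fun h => ?_⟩
    · rintro ⟨l', rfl⟩
      obtain ⟨-, -, hl'⟩ := hexact 0
      obtain ⟨w, hw⟩ := hl' hn l'
      have : cycEquiv lL CD U.1 (d U) (hdg U) (hdnz U) (val ID U.1.1 (d U) • l') =
          (CD.K.toCycles (q + 1) q).app U.1.1 w := hinj (by rw [cycEquiv_i, hd, hw])
      rw [this]
      show (CD.K.toCycles (q + 1) q ≫ CD.K.homologyπ q).app U.1.1 w = 0
      rw [CD.K.toCycles_comp_homologyπ]; rfl
    · obtain ⟨w, hw⟩ := hπk _ h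
      obtain ⟨l', hl', -⟩ := hexact w
      refine ⟨l', (cycEquiv lL CD U.1 (d U) (hdg U) (hdnz U)).injective (hinj ?_)⟩
      rw [cycEquiv_i, cycEquiv_i, ← hl', ← hd, hw, cycEquiv_i]
  let ψ := fun U : ι => ((a U).quotKerEquivOfSurjective (hk U).1).symm ≪≫ₗ
    Submodule.quotEquivOfEq _ _ (hk U).2.2 ≪≫ₗ (b U).quotKerEquivOfSurjective (hk U).2.1
  have hψ : ∀ U l, ψ U (a U l) = b U l := fun U l => by
    show (b U).quotKerEquivOfSurjective (hk U).2.1 (Submodule.quotEquivOfEq _ _ (hk U).2.2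
      (((a U).quotKerEquivOfSurjective (hk U).1).symm (a U l))) = _
    have : ((a U).quotKerEquivOfSurjective (hk U).1).symm (a U l) = Submodule.Quotient.mk l := by
      rw [LinearEquiv.symm_apply_eq]; rfl
    rw [this]
    rfl
  refine ⟨(AffHom.exists_iso_basis hB ψ fun U V h z => ?_).choose⟩
  obtain ⟨l, rfl⟩ := (hk U).1 z
  obtain ⟨c, hc⟩ := (heg V).exists_smul_eq le_rfl (mres _ h (e U))
  obtain ⟨c', hc'⟩ := (hdg V).exists_smul_eq le_rfl (mres _ h (d U))
  rw [InvExt.mres_self] at hc hc'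
  have ha : ((Scheme.Modules.pullback ID.subschemeι ⋙ Scheme.Modules.pushforward ID.subschemeι).obj M).presheaf.map
      (homOfLE h).op (a U l) = (c ^ q * c' ^ q) • a V (L.presheaf.map (homOfLE h).op l) := by
    refine (QCoh.map_app (K0Sub.unitApp ID.subschemeι M) (homOfLE h) _).trans ?_
    show (K0Sub.unitApp ID.subschemeι M).app V.1.1 (mres _ h (tm (cycEquiv lL C U.1 (e U) (heg U) (henz U) l)
      (TensorGen.pw _ (d U) q))) = _
    rw [VA.mres_tm, TensorGen.mres_pw, hc', TensorGen.pw_smul, VA.tm_smul_right,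
      show mres (C.K.cycles q) h (cycEquiv lL C U.1 (e U) (heg U) (henz U) l) = _ from
        mres_cycEquiv lL hlL C U.1 V.1 h _ _ _ _ (heg V) (henz V) c hc l,
      VA.tm_smul_left, smul_smul, mul_comm, Scheme.Modules.Hom.app_smul]
    rfl
  have hb : (CohB1.tensorMod (CD.K.homology q) (CohB1.tensorPow (ClSub.idealMod I) q)).presheaf.map
      (homOfLE h).op (b U l) = (c ^ q * c' ^ q) • b V (L.presheaf.map (homOfLE h).op l) := by
    show mres _ h (tm ((CD.K.homologyπ q).app U.1.1 (cycEquiv lL CD U.1 (d U) (hdg U) (hdnz U) l))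
      (TensorGen.pw _ (e U) q)) = _
    rw [VA.mres_tm, TensorGen.mres_pw, hc, TensorGen.pw_smul, VA.tm_smul_right]
    have : mres (CD.K.homology q) h ((CD.K.homologyπ q).app U.1.1 (cycEquiv lL CD U.1 (d U) (hdg U) (hdnz U) l)) =
        c' ^ q • (CD.K.homologyπ q).app V.1.1 (cycEquiv lL CD V.1 (d V) (hdg V) (hdnz V) (L.presheaf.map (homOfLE h).op l)) := by
      refine (QCoh.map_app (CD.K.homologyπ q) (homOfLE h) _).trans ?_
      rw [mres_cycEquiv lL hlL CD U.1 V.1 h _ _ _ _ (hdg V) (hdnz V) c' hc' l, Scheme.Modules.Hom.app_smul]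
    show c ^ q • tm (mres (CD.K.homology q) h ((CD.K.homologyπ q).app U.1.1 (cycEquiv lL CD U.1 (d U) (hdg U) (hdnz U) l))) _ = _
    rw [this, VA.tm_smul_left, smul_smul]
    rfl
  rw [hψ]
  refine hb.trans ?_
  refine Eq.trans ?_ (congrArg (ψ V) ha.symm)
  rw [map_smul, hψ]

end GrothLib.Koszul12
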