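import Groth.Agent.Lib.KoszulExt.Basic
import Mathlib.LinearAlgebra.StdBasis
import Mathlib.LinearAlgebra.Basis.Basic

/-!
# Koszul cycles killed up to boundaries by an element regular on the quotient

The linear form need not send a basis to a regular sequence: it is enough that some of the values form a
regular sequence generating all of them.
-/

set_option autoImplicit false
set_option linter.all false
universe u v w

namespace GrothLib.Koszul12

open GrothLib.KoszulExt

variable {R : Type u} [CommRing R] {M : Type v} [AddCommGroup M] [Module R M]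

/-- Contraction commutes with maps of exterior algebras. -/
theorem contract_map {N : Type w} [AddCommGroup N] [Module R N] (f : M →ₗ[R] N) (ψ : Module.Dual R N)
    (z : ExteriorAlgebra R M) :
    CliffordAlgebra.contractLeft ψ (ExteriorAlgebra.map f z) =
      ExteriorAlgebra.map f (CliffordAlgebra.contractLeft (ψ.comp f) z) := by
  induction z using CliffordAlgebra.left_induction with
  | algebraMap r =>
    rw [CliffordAlgebra.contractLeft_algebraMap, map_zero, AlgHom.commutes, CliffordAlgebra.contractLeft_algebraMap]
  | add x y hx hy => simp only [map_add, hx, hy]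
  | ι_mul x v hx =>
    rw [CliffordAlgebra.contractLeft_ι_mul]
    erw [map_mul, ExteriorAlgebra.map_apply_ι, CliffordAlgebra.contractLeft_ι_mul, hx]
    simp only [LinearMap.comp_apply, map_sub, map_smul, map_mul]
    erw [ExteriorAlgebra.map_apply_ι]

theorem map_mem {N : Type w} [AddCommGroup N] [Module R N] (f : M →ₗ[R] N) {p : ℕ} {z : ExteriorAlgebra R M}
    (hz : z ∈ ExteriorAlgebra.exteriorPower R p M) :
    ExteriorAlgebra.map f z ∈ ExteriorAlgebra.exteriorPower R p N := by
  induction hz using Submodule.pow_induction_on_left' with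
  | algebraMap r =>
    rw [AlgHom.commutes]
    show _ ∈ LinearMap.range (ExteriorAlgebra.ι R) ^ 0
    rw [pow_zero]
    exact Submodule.mem_one.2 ⟨r, rfl⟩
  | add x y i _ _ ihx ihy => rw [map_add]; exact add_mem ihx ihy
  | mem_mul m hm i x _ ih =>
    obtain ⟨v, rfl⟩ := hm
    rw [map_mul, ExteriorAlgebra.map_apply_ι]
    exact ι_mul_mem _ ih

/-- The projection along a vector in the exterior algebra. -/
theorem map_sub_smulRight (ε : Module.Dual R M) (e : M) (x : ExteriorAlgebra R M) :
    ExteriorAlgebra.map (LinearMap.id - ε.smulRight e) x =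
      x - ExteriorAlgebra.ι R e * CliffordAlgebra.contractLeft ε x := by
  symm
  induction x using CliffordAlgebra.left_induction with
  | algebraMap r => simp [CliffordAlgebra.contractLeft_algebraMap]
  | add x y hx hy =>
    rw [map_add, map_add, ← hx, ← hy, mul_add]
    abel
  | ι_mul x v hx =>
    rw [CliffordAlgebra.contractLeft_ι_mul]
    erw [map_mul, ExteriorAlgebra.map_apply_ι]
    erw [← hx]
    simp only [LinearMap.sub_apply, LinearMap.id_apply, LinearMap.smulRight_apply, map_sub, map_smul,
      mul_sub, sub_mul, smul_mul_assoc, mul_smul_comm, ← mul_assoc, ExteriorAlgebra.ι_sq_zero, zero_mul,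
      smul_zero, sub_zero]
    show ExteriorAlgebra.ι R v * x - _ = _
    erw [eq_neg_of_add_eq_zero_left (ExteriorAlgebra.ι_add_mul_swap (R := R) e v)]
    rw [neg_mul]
    abel

/-- Koszul cycles are boundaries if a multiple by a regular element of the quotient is one. -/
theorem exists_contract_eq_of_smul {n m : ℕ} (b : Module.Basis (Fin n) R M) (φ : Module.Dual R M)
    (σ : Fin m → Fin n) (hσ : Function.Injective σ)
    (hreg : RingTheory.Sequence.IsWeaklyRegular R (List.ofFn fun k => φ (b (σ k))))
    (hgen : ∀ j, φ (b j) ∈ Ideal.span (Set.range fun k => φ (b (σ k))))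
    (x : R) (hx : ∀ r, x * r ∈ Ideal.span (Set.range fun k => φ (b (σ k))) →
      r ∈ Ideal.span (Set.range fun k => φ (b (σ k))))
    (q : ℕ) (y : ExteriorAlgebra R M) (hy : y ∈ ExteriorAlgebra.exteriorPower R q M)
    (hd : CliffordAlgebra.contractLeft φ y = 0) (w : ExteriorAlgebra R M)
    (hw : w ∈ ExteriorAlgebra.exteriorPower R (q + 1) M)
    (hwy : CliffordAlgebra.contractLeft φ w = x • y) :
    ∃ v ∈ ExteriorAlgebra.exteriorPower R (q + 1) M, CliffordAlgebra.contractLeft φ v = y := by
  classical
  set I := Ideal.span (Set.range fun k => φ (b (σ k))) with hI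
  induction q generalizing y w with
  | zero =>
    change y ∈ LinearMap.range (ExteriorAlgebra.ι R : M →ₗ[R] _) ^ 0 at hy
    rw [pow_zero, Submodule.mem_one] at hy
    obtain ⟨r, rfl⟩ := hy
    change w ∈ LinearMap.range (ExteriorAlgebra.ι R : M →ₗ[R] _) ^ (0 + 1) at hw
    rw [zero_add, pow_one] at hw
    obtain ⟨v, rfl⟩ := hw
    erw [CliffordAlgebra.contractLeft_ι] at hwy
    rw [Algebra.smul_def, ← map_mul] at hwy
    have hv : φ v = x * r := (ExteriorAlgebra.algebraMap_leftInverse M).injective hwy
    have hvI : φ v ∈ I := by
      rw [← b.sum_repr v, map_sum]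
      refine Ideal.sum_mem _ fun j _ => ?_
      rw [map_smul, smul_eq_mul]
      exact Ideal.mul_mem_left _ _ (hgen j)
    rw [hv] at hvI
    obtain ⟨c, hc⟩ := Ideal.mem_span_range_iff_exists_fun.1 (hx r hvI)
    refine ⟨ExteriorAlgebra.ι R (∑ k, c k • b (σ k)), ?_, ?_⟩
    · show _ ∈ LinearMap.range (ExteriorAlgebra.ι R : M →ₗ[R] _) ^ (0 + 1)
      rw [zero_add, pow_one]
      exact ⟨_, rfl⟩
    · erw [CliffordAlgebra.contractLeft_ι]
      rw [map_sum, ← hc]
      congr 1
      exact Finset.sum_congr rfl fun k _ => by rw [map_smul, smul_eq_mul]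
  | succ q ih =>
    -- the values of the form through the chosen vectors
    choose a ha using fun j => Ideal.mem_span_range_iff_exists_fun.1 (hgen j)
    let i : (Fin m → R) →ₗ[R] M := (Pi.basisFun R (Fin m)).constr R fun k => b (σ k)
    let a' : Fin n → Fin m → R := fun j => if h : ∃ k, σ k = j then Pi.single h.choose 1 else a j
    let p : M →ₗ[R] Fin m → R := b.constr R a'
    let u : Fin n → M := fun j => i (a' j)
    have hi1 : ∀ k, i (Pi.single k 1) = b (σ k) := fun k => by
      simp only [i]
      rw [← Pi.basisFun_apply R (Fin m) k, Module.Basis.constr_basis]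
    have hi : ∀ c : Fin m → R, i c = ∑ k, c k • b (σ k) := fun c => by
      simp [i, Module.Basis.constr_apply_fintype, Pi.basisFun_equivFun]
    have hu1 : ∀ k, u (σ k) = b (σ k) := fun k => by
      have h : ∃ k', σ k' = σ k := ⟨k, rfl⟩
      simp only [u, a', dif_pos h, hi1, hσ h.choose_spec]
    have hu2 : ∀ t, (¬∃ k, σ k = t) → ∀ j, b.coord t (u j) = 0 := fun t ht j => by
      simp only [u, hi, map_sum, map_smul]
      refine Finset.sum_eq_zero fun k _ => ?_
      rw [Module.Basis.coord_apply, b.repr_self, Finsupp.single_apply, if_neg (fun h => ht ⟨k, h⟩), smul_zero]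
    have hφu : ∀ j, φ (u j) = φ (b j) := fun j => by
      by_cases h : ∃ k, σ k = j
      · obtain ⟨k, rfl⟩ := h
        rw [hu1]
      · simp only [u, a', dif_neg h, hi, map_sum, map_smul, smul_eq_mul, ha]
    -- removing the other basis vectors one at a time changes a cycle by a boundary
    have key : ∀ s : Finset (Fin n), ∃ π : M →ₗ[R] M, (∀ j, π (b j) = if j ∈ s then u j else b j) ∧
        ∃ v ∈ ExteriorAlgebra.exteriorPower R (q + 1 + 1) M,
          ExteriorAlgebra.map π y = y + CliffordAlgebra.contractLeft φ v := by
      intro s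
      induction s using Finset.induction with
      | empty => exact ⟨LinearMap.id, by simp, 0, zero_mem _, by simp⟩
      | insert t s hts ihs =>
        obtain ⟨π, hπ, v, hv, hπy⟩ := ihs
        let e := b t - u t
        have hφe : φ e = 0 := by simp only [e, map_sub, hφu, sub_self]
        let ε := b.coord t
        refine ⟨(LinearMap.id - ε.smulRight e).comp π, fun j => ?_, ?_⟩
        · rw [LinearMap.comp_apply, hπ]
          simp only [LinearMap.sub_apply, LinearMap.id_apply, LinearMap.smulRight_apply]
          by_cases ht : ∃ k, σ k = t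
          · obtain ⟨k, rfl⟩ := ht
            have he : e = 0 := by simp only [e, hu1, sub_self]
            rw [he, smul_zero, sub_zero]
            rcases eq_or_ne j (σ k) with rfl | hj
            · simp [hts, hu1]
            · simp [hj]
          · by_cases hjs : j ∈ s
            · rw [if_pos hjs, if_pos (Finset.mem_insert_of_mem hjs)]
              show u j - b.coord t (u j) • e = _
              rw [hu2 t ht, zero_smul, sub_zero]
            · rw [if_neg hjs]
              rcases eq_or_ne j t with rfl | hj
              · simp [ε, e]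
              · simp [ε, hjs, hj, Finsupp.single_apply]
        · rw [← ExteriorAlgebra.map_comp_map, AlgHom.comp_apply, map_sub_smulRight, hπy]
          set y' := y + CliffordAlgebra.contractLeft φ v with hy'
          have hy'mem : y' ∈ ExteriorAlgebra.exteriorPower R (q + 1) M :=
            add_mem hy ((contract_mem φ hv).2 _ rfl)
          have hy'd : CliffordAlgebra.contractLeft φ y' = 0 := by
            rw [hy', map_add, hd, zero_add]
            exact CliffordAlgebra.contractLeft_contractLeft _ v
          have hw' : w + x • v ∈ ExteriorAlgebra.exteriorPower R (q + 1 + 1) M :=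
            add_mem hw (Submodule.smul_mem _ _ hv)
          have hwy' : CliffordAlgebra.contractLeft φ (w + x • v) = x • y' := by
            rw [map_add, map_smul, hwy, hy', smul_add]
          obtain ⟨c, hc, hdc⟩ := ih (CliffordAlgebra.contractLeft ε y') ((contract_mem ε hy'mem).2 q rfl)
            (by erw [CliffordAlgebra.contractLeft_comm, hy'd, map_zero, neg_zero])
            (-CliffordAlgebra.contractLeft ε (w + x • v)) (neg_mem ((contract_mem ε hw').2 _ rfl))
            (by erw [map_neg, CliffordAlgebra.contractLeft_comm, neg_neg, hwy', map_smul])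
          refine ⟨v + ExteriorAlgebra.ι R e * c, add_mem hv (ι_mul_mem e hc), ?_⟩
          have hec : CliffordAlgebra.contractLeft φ (ExteriorAlgebra.ι R e * c) =
              φ e • c - ExteriorAlgebra.ι R e * CliffordAlgebra.contractLeft φ c :=
            CliffordAlgebra.contractLeft_ι_mul _ _ _
          rw [map_add (CliffordAlgebra.contractLeft φ) v, hec, hφe, zero_smul, zero_sub, hdc, ← add_assoc, ← hy',
            ← sub_eq_add_neg]
    obtain ⟨π, hπ, v, hv, hπy⟩ := key Finset.univ
    have hπ' : π = i.comp p := b.ext fun j => by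
      rw [hπ j, if_pos (Finset.mem_univ j)]
      simp [p, u]
    have hp : (φ.comp i).comp p = φ := b.ext fun j => by
      simp only [LinearMap.comp_apply, p, Module.Basis.constr_basis]
      exact hφu j
    obtain ⟨v', hv', hdv'⟩ := exists_contract_eq (Pi.basisFun R (Fin m)) (φ.comp i)
      (by simpa only [LinearMap.comp_apply, Pi.basisFun_apply, hi1] using hreg) (q := q + 1) (by omega)
      (map_mem p hy) (by rw [contract_map, hp, hd, map_zero])
    refine ⟨ExteriorAlgebra.map i v' - v, sub_mem (map_mem i hv') hv, ?_⟩
    rw [map_sub, contract_map, hdv', ← AlgHom.comp_apply, ExteriorAlgebra.map_comp_map, ← hπ', hπy,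
      add_sub_cancel_right]

end GrothLib.Koszul12
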