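import Groth.Agent.Lib.Koszul12.Main
import Groth.Agent.Lib.Koszul12.ZeroVals
import Groth.Agent.Lib.RegSeqLoc.Scheme
import Groth.Agent.Lib.CMFree.Params
import Groth.Agent.Lib.LciH1.CM
import Groth.Agent.Lib.IntMult4.Regular
import Groth.Agent.Lib.KoszulH1
import Groth.Prelude.Def_RegImm
import Mathlib.LinearAlgebra.Matrix.Rank
import Mathlib.AlgebraicGeometry.IdealSheaf.Subscheme

/-!
# A divisor avoiding the components of a complete intersection is regular on Koszul homology
-/

set_option autoImplicit false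
set_option linter.all false
set_option maxHeartbeats 1000000
set_option backward.isDefEq.respectTransparency false
set_option backward.isDefEq.respectTransparency.types false
universe u

open CategoryTheory CategoryTheory.Limits AlgebraicGeometry TopologicalSpace Opposite KoszSh RingTheory.Sequence IsLocalRing

noncomputable section

namespace GrothLib.Koszul12

open GrothLib.InvExt (mres IsGen)
open GrothLib.IdealModSec (val)
open GrothLib.BlowUp (CartierOn)

section Algebra

variable {R : Type u} [CommRing R]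

theorem isWeaklyRegular_concat_iff (l : List R) (a : R) :
    IsWeaklyRegular R (l ++ [a]) ↔ IsWeaklyRegular R l ∧ ∀ r, a * r ∈ Ideal.ofList l → r ∈ Ideal.ofList l := by
  rw [isWeaklyRegular_append_iff, isWeaklyRegular_singleton_iff, isSMulRegular_quotient_iff_mem_of_smul_mem]
  simp only [smul_eq_mul, Ideal.mul_top]

/-- A generating subfamily with at most as many members as any given generating sequence. -/
theorem exists_subfamily [IsLocalRing R] {n c : ℕ} (F : Fin n → R) (t : Fin c → R)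
    (h : Ideal.span (Set.range F) = Ideal.span (Set.range t)) :
    ∃ (m : ℕ) (σ : Fin m → Fin n), m ≤ c ∧ Function.Injective σ ∧
      Ideal.span (Set.range fun k => F (σ k)) = Ideal.span (Set.range F) := by
  classical
  have hex : ∃ m : ℕ, ∃ σ : Fin m → Fin n, Ideal.span (Set.range fun k => F (σ k)) = Ideal.span (Set.range F) :=
    ⟨n, id, rfl⟩
  set m := Nat.find hex with hm
  obtain ⟨σ, hσ⟩ : ∃ σ : Fin m → Fin n, Ideal.span (Set.range fun k => F (σ k)) = Ideal.span (Set.range F) :=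
    Nat.find_spec hex
  -- no member of a shortest subfamily is generated by the others
  have hmin : ∀ j : Fin m, F (σ j) ∉ Ideal.span ((fun k => F (σ k)) '' {k | k ≠ j}) := by
    intro j hj
    obtain ⟨m', hm'⟩ : ∃ m', m = m' + 1 := ⟨m - 1, by have := j.isLt; omega⟩
    refine Nat.find_min hex (m := m') (by omega) ⟨fun l => σ (Fin.cast hm'.symm ((Fin.cast hm' j).succAbove l)),
      le_antisymm (Ideal.span_mono ?_) ?_⟩
    · rintro _ ⟨l, rfl⟩; exact ⟨_, rfl⟩
    · rw [← hσ, Ideal.span_le]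
      rintro _ ⟨k, rfl⟩
      by_cases hk : k = j
      · rw [hk]
        refine (Ideal.span_le.2 ?_) hj
        rintro _ ⟨k', hk', rfl⟩
        obtain ⟨l, hl⟩ := Fin.exists_succAbove_eq (x := Fin.cast hm' k') (y := Fin.cast hm' j)
          (fun e => hk' (Fin.cast_injective hm' e))
        exact Ideal.subset_span ⟨l, by simp [hl]⟩
      · obtain ⟨l, hl⟩ := Fin.exists_succAbove_eq (x := Fin.cast hm' k) (y := Fin.cast hm' j)
          (fun e => hk (Fin.cast_injective hm' e))
        exact Ideal.subset_span ⟨l, by simp [hl]⟩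
  have hinj : Function.Injective σ := by
    intro a b hab
    by_contra hne
    refine hmin b (Ideal.subset_span ⟨a, hne, ?_⟩)
    show F (σ a) = F (σ b)
    rw [hab]
  refine ⟨m, σ, ?_, hinj, hσ⟩
  have h' := hσ.trans h
  choose B hB using fun i : Fin m => Ideal.mem_span_range_iff_exists_fun.1
    (h'.le (Ideal.subset_span ⟨i, rfl⟩) : F (σ i) ∈ Ideal.span (Set.range t))
  choose A hA using fun k : Fin c => Ideal.mem_span_range_iff_exists_fun.1
    (h'.ge (Ideal.subset_span ⟨k, rfl⟩) : t k ∈ Ideal.span (Set.range fun i => F (σ i)))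
  let Bm : Matrix (Fin m) (Fin c) R := B
  let Am : Matrix (Fin c) (Fin m) R := A
  have hP : ∀ i, ∑ j, (Bm * Am) i j * F (σ j) = F (σ i) := fun i => by
    calc ∑ j, (Bm * Am) i j * F (σ j) = ∑ j, ∑ k, B i k * (A k j * F (σ j)) := by
          simp only [Matrix.mul_apply, Finset.sum_mul, mul_assoc]; rfl
      _ = ∑ k, B i k * t k := by
          rw [Finset.sum_comm]
          simp only [← Finset.mul_sum, hA]
      _ = F (σ i) := hB i
  have hres : Bm.map (residue R) * Am.map (residue R) = 1 := by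
    rw [← Matrix.map_mul]
    ext i j
    rw [Matrix.map_apply]
    by_contra hij
    let N : Fin m → R := fun l => (1 : Matrix (Fin m) (Fin m) R) i l - (Bm * Am) i l
    have hN : IsUnit (N j) := by
      by_contra hu
      apply hij
      have h0 := (residue_eq_zero_iff (N j)).2 hu
      rw [map_sub, sub_eq_zero] at h0
      rw [← h0, Matrix.one_apply, Matrix.one_apply, apply_ite (residue R), map_one, map_zero]
    have hsum : ∑ l, N l * F (σ l) = 0 := by
      simp [N, sub_mul, Finset.sum_sub_distrib, hP, Matrix.one_apply]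
    refine hmin j ((Ideal.unit_mul_mem_iff_mem _ hN).1 ?_)
    rw [← Finset.add_sum_erase _ _ (Finset.mem_univ j), add_eq_zero_iff_eq_neg] at hsum
    rw [hsum]
    exact neg_mem (Ideal.sum_mem _ fun l hl => Ideal.mul_mem_left _ _
      (Ideal.subset_span ⟨l, (Finset.mem_erase.1 hl).1, rfl⟩))
  have hr := Matrix.rank_mul_le_left (Bm.map (residue R)) (Am.map (residue R))
  rw [hres, Matrix.rank_one, Fintype.card_fin] at hr
  exact hr.trans (Matrix.rank_le_width _)

/-- Some of given generators of a regular ideal form a regular sequence, which a given element extends if it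
avoids the minimal primes. -/
theorem exists_regular_subfamily [IsRegularLocalRing R] {n : ℕ} (F : Fin n → R) (rs : List R)
    (hrs : IsRegular R rs) (h : Ideal.span (Set.range F) = Ideal.ofList rs) (ξ : R)
    (hξ : ∀ p ∈ (Ideal.ofList rs).minimalPrimes, ξ ∉ p) :
    ∃ (m : ℕ) (σ : Fin m → Fin n), Function.Injective σ ∧
      Ideal.span (Set.range fun k => F (σ k)) = Ideal.span (Set.range F) ∧
      IsWeaklyRegular R ((List.ofFn fun k => F (σ k)) ++ [ξ]) := by
  obtain ⟨m, σ, hm, hinj, hσ⟩ := exists_subfamily F rs.get (by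
    rw [h, ← GrothLib.KoszulH1.ofList_ofFn, List.ofFn_get])
  refine ⟨m, σ, hinj, hσ, ?_⟩
  have hI : Ideal.ofList (List.ofFn fun k => F (σ k)) = Ideal.ofList rs := by
    rw [GrothLib.KoszulH1.ofList_ofFn, hσ, h]
  have hne : Ideal.ofList rs ≠ ⊤ := fun e => hrs.top_ne_smul (by rw [e, Submodule.top_smul])
  have hreg := GrothLib.CMFree.isRegular_of_ringKrullDim_quotient R (List.ofFn fun k => F (σ k)) (hI ▸ hne) (by
    rw [hI, ← ringKrullDim_add_length_eq_ringKrullDim_of_isRegular rs hrs, List.length_ofFn]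
    gcongr)
  haveI : LocCoh.IsCohenMacaulayLocalRing R := GrothLib.IntMult4.isCohenMacaulayLocalRing
  rw [isWeaklyRegular_concat_iff]
  refine ⟨hreg.toIsWeaklyRegular, fun r hr => ?_⟩
  rw [hI] at hr ⊢
  by_contra hrn
  obtain ⟨p, hp, hle⟩ := exists_le_isAssociatedPrime_of_isNoetherianRing R
    (Ideal.Quotient.mk (Ideal.ofList rs) r : R ⧸ Ideal.ofList rs) (mt Ideal.Quotient.eq_zero_iff_mem.1 hrn)
  refine hξ p (GrothLib.LciH1.mem_minimalPrimes_of_associated rs hrs.toIsWeaklyRegular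
    (fun s hs => le_maximalIdeal hne (Ideal.subset_span hs)) p hp) (hle ?_)
  exact Submodule.mem_colon_singleton.2 ((Submodule.mem_bot R).2 (Ideal.Quotient.eq_zero_iff_mem.2 hr))

end Algebra

variable {X : Scheme.{u}}

theorem mem_basicOpen_fromSpec_iff {U : X.Opens} (hU : IsAffineOpen U) (P : PrimeSpectrum Γ(X, U)) (f : Γ(X, U)) :
    hU.fromSpec.base P ∈ X.basicOpen f ↔ f ∉ P.asIdeal := by
  show P ∈ hU.fromSpec ⁻¹ᵁ X.basicOpen f ↔ _
  rw [hU.fromSpec_preimage_basicOpen]
  exact PrimeSpectrum.mem_basicOpen _ _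

/-- A minimal prime of `I` in a local ring avoids the generators of a divisor containing no point of the
subscheme with zero-dimensional local ring. -/
theorem not_mem_minimalPrimes (I ID : X.IdealSheafData)
    (hZD : ∀ z : ↥I.subscheme, ringKrullDim (I.subscheme.presheaf.stalk z) = 0 →
      I.subschemeι.base z ∉ Set.range ID.subschemeι.base)
    (U : X.affineOpens) {y : X} (hy : y ∈ U.1) (x : Γ(X, U.1)) (hx : ID.ideal U = Ideal.span {x})
    (p : Ideal (X.presheaf.stalk y))
    (hp : p ∈ ((I.ideal U).map (X.presheaf.germ U.1 y hy).hom).minimalPrimes) :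
    (X.presheaf.germ U.1 y hy).hom x ∉ p := by
  intro hxp
  let algX : Algebra Γ(X, U.1) (X.presheaf.stalk y) :=
    TopCat.Presheaf.algebra_section_stalk X.presheaf (⟨y, hy⟩ : U.1)
  haveI : IsLocalization.AtPrime (X.presheaf.stalk y) (U.2.primeIdealOf ⟨y, hy⟩).asIdeal :=
    U.2.isLocalization_stalk ⟨y, hy⟩
  have hP : p.comap (algebraMap Γ(X, U.1) (X.presheaf.stalk y)) ∈ (I.ideal U).minimalPrimes := by
    exact (IsLocalization.minimalPrimes_map (U.2.primeIdealOf ⟨y, hy⟩).asIdeal.primeCompl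
      (X.presheaf.stalk y) (I.ideal U)).le hp
  generalize hPdef : p.comap (algebraMap Γ(X, U.1) (X.presheaf.stalk y)) = P at hP
  have hxP : x ∈ P := hPdef ▸ hxp
  haveI := hP.1.1
  let z' := U.2.fromSpec.base ⟨P, hP.1.1⟩
  have hz'U : z' ∈ U.1 := U.2.range_fromSpec.le ⟨_, rfl⟩
  have hmem : ∀ f, z' ∈ X.basicOpen f ↔ f ∉ P := fun f => mem_basicOpen_fromSpec_iff U.2 _ f
  obtain ⟨z, hz⟩ : z' ∈ Set.range I.subschemeι.base := by
    rw [Scheme.IdealSheafData.range_subschemeι]
    show z' ∈ I.support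
    rw [Scheme.IdealSheafData.mem_support_iff_of_mem hz'U, Scheme.mem_zeroLocus_iff]
    exact fun f hf h => (hmem f).1 h (hP.1.2 hf)
  refine hZD z ?_ ?_
  swap
  · rw [hz, Scheme.IdealSheafData.range_subschemeι]
    show z' ∈ ID.support
    rw [Scheme.IdealSheafData.mem_support_iff_of_mem hz'U, Scheme.mem_zeroLocus_iff]
    intro f hf h
    rw [hx] at hf
    exact (hmem f).1 h ((Ideal.span_singleton_le_iff_mem _).2 hxP hf)
  -- the local ring of the subscheme at the new point has a single prime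
  have hzU : I.subschemeι z ∈ U.1 := hz ▸ hz'U
  have hmem' : ∀ f, ¬IsUnit ((X.presheaf.germ U.1 _ hzU).hom f) ↔ f ∈ P := fun f => by
    rw [← not_iff_not, not_not, ← hmem f, ← Scheme.mem_basicOpen _ f _ hzU, hz]
  let φ := (I.subschemeι.stalkMap z).hom.comp (X.presheaf.germ U.1 _ hzU).hom
  have hker : I.ideal U ≤ RingHom.ker φ := fun f hf => by
    have := (GrothLib.RegSeqLoc.ker_stalkMap I.subschemeι z U hzU).ge
      (Ideal.mem_map_of_mem _ (by rwa [Scheme.IdealSheafData.ker_subschemeι]))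
    exact this
  haveI : Ring.KrullDimLE 0 (I.subscheme.presheaf.stalk z) := by
    refine Ring.krullDimLE_zero_iff.2 fun Q hQ => ?_
    have hQP : Q.comap φ ≤ P := fun f hf => (hmem' f).1 fun hu =>
      hQ.ne_top (Ideal.eq_top_of_isUnit_mem _ hf (hu.map (I.subschemeι.stalkMap z).hom))
    have hPQ : P ≤ Q.comap φ := hP.2 ⟨Ideal.IsPrime.comap φ, fun f hf => by
      rw [Ideal.mem_comap, RingHom.mem_ker.1 (hker hf)]
      exact zero_mem _⟩ hQP
    suffices Q = maximalIdeal _ by rw [this]; exact maximalIdeal.isMaximal _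
    refine le_antisymm (le_maximalIdeal hQ.ne_top) fun s hs => ?_
    obtain ⟨r, rfl⟩ := I.subschemeι.stalkMap_surjective z s
    let algZ : Algebra Γ(X, U.1) (X.presheaf.stalk (I.subschemeι z)) :=
      TopCat.Presheaf.algebra_section_stalk X.presheaf (⟨_, hzU⟩ : U.1)
    haveI : IsLocalization.AtPrime (X.presheaf.stalk (I.subschemeι z)) (U.2.primeIdealOf ⟨_, hzU⟩).asIdeal :=
      U.2.isLocalization_stalk ⟨_, hzU⟩
    obtain ⟨⟨a, t⟩, hat⟩ := IsLocalization.surj (U.2.primeIdealOf ⟨_, hzU⟩).asIdeal.primeCompl r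
    have hu : IsUnit ((I.subschemeι.stalkMap z).hom (algebraMap Γ(X, U.1) _ (t : Γ(X, U.1)))) :=
      (IsLocalization.map_units _ t).map _
    refine (Ideal.mul_unit_mem_iff_mem _ hu).1 ?_
    rw [← map_mul, hat]
    refine hPQ ((hmem' a).1 fun ha => ?_)
    have h1 : IsUnit ((I.subschemeι.stalkMap z).hom (r * algebraMap Γ(X, U.1) _ (t : Γ(X, U.1)))) := by
      rw [hat]; exact ha.map _
    rw [map_mul, IsUnit.mul_iff] at h1
    exact hs h1.1
  exact ringKrullDimZero_iff_ringKrullDim_eq_zero.1 inferInstance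

/-- The choice of equations in the local ring at a point. -/
theorem exists_stalk_data [IsLocallyNoetherian X] (hRL : ∀ y : X, IsRegularLocalRing (X.presheaf.stalk y))
    {n : ℕ} (IY : Fin n → X.IdealSheafData) (ID : X.IdealSheafData)
    (hZ : RegImm.IsRegularImmersion RegImm.Kind.regular (⨆ i, IY i).subschemeι)
    (hZD : ∀ z : ↥(⨆ i, IY i).subscheme, ringKrullDim ((⨆ i, IY i).subscheme.presheaf.stalk z) = 0 →
      (⨆ i, IY i).subschemeι.base z ∉ Set.range ID.subschemeι.base)
    (V : X.affineOpens) (f : Fin n → Γ(X, V.1)) (hI : (⨆ i, IY i).ideal V = Ideal.span (Set.range f))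
    {y : X} (hy : y ∈ V.1) (x : Γ(X, V.1)) (hx : ID.ideal V = Ideal.span {x}) :
    ∃ (m : ℕ) (σ : Fin m → Fin n), Function.Injective σ ∧
      Ideal.span (Set.range fun k => (X.presheaf.germ V.1 y hy).hom (f (σ k))) =
        Ideal.span (Set.range fun i => (X.presheaf.germ V.1 y hy).hom (f i)) ∧
      IsWeaklyRegular (X.presheaf.stalk y)
        ((List.ofFn fun k => (X.presheaf.germ V.1 y hy).hom (f (σ k))) ++ [(X.presheaf.germ V.1 y hy).hom x]) := by
  by_cases hu : ∃ i, IsUnit ((X.presheaf.germ V.1 y hy).hom (f i))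
  · obtain ⟨i, hi⟩ := hu
    have h1 : Ideal.span (Set.range fun _ : Fin 1 => (X.presheaf.germ V.1 y hy).hom (f i)) = ⊤ :=
      Ideal.eq_top_of_isUnit_mem _ (Ideal.subset_span ⟨0, rfl⟩) hi
    have h2 : Ideal.span (Set.range fun j => (X.presheaf.germ V.1 y hy).hom (f j)) = ⊤ :=
      Ideal.eq_top_of_isUnit_mem _ (Ideal.subset_span ⟨i, rfl⟩) hi
    refine ⟨1, fun _ => i, Function.injective_of_subsingleton _, h1.trans h2.symm, ?_⟩
    rw [isWeaklyRegular_concat_iff, GrothLib.KoszulH1.ofList_ofFn, h1]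
    refine ⟨?_, fun r _ => Submodule.mem_top⟩
    rw [List.ofFn_succ, List.ofFn_zero, isWeaklyRegular_singleton_iff]
    exact hi.isSMulRegular _
  · push Not at hu
    have hle : Ideal.span (Set.range fun i => (X.presheaf.germ V.1 y hy).hom (f i)) ≤ maximalIdeal _ :=
      Ideal.span_le.2 (by rintro _ ⟨i, rfl⟩; exact hu i)
    have hmap : ((⨆ i, IY i).ideal V).map (X.presheaf.germ V.1 y hy).hom =
        Ideal.span (Set.range fun i => (X.presheaf.germ V.1 y hy).hom (f i)) := by
      rw [hI, Ideal.map_span, ← Set.range_comp]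
      rfl
    obtain ⟨z, rfl⟩ : y ∈ Set.range (⨆ i, IY i).subschemeι.base := by
      rw [Scheme.IdealSheafData.range_subschemeι]
      show y ∈ (⨆ i, IY i).support
      rw [Scheme.IdealSheafData.mem_support_iff_of_mem hy, Scheme.mem_zeroLocus_iff]
      intro g hg h
      exact hle (hmap ▸ Ideal.mem_map_of_mem _ hg) ((Scheme.mem_basicOpen _ _ _ hy).1 h)
    obtain ⟨U', hzU', -, rs, hrs, hker⟩ := hZ.2 z
    obtain ⟨rs', hrs', hk⟩ := (GrothLib.RegSeqLoc.exists_affine_iff (⨆ i, IY i).subschemeι z).1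
      ⟨U', hzU', rs, hrs, (Scheme.Hom.ker_apply _ U').trans hker⟩
    rw [GrothLib.RegSeqLoc.ker_stalkMap _ z V hy, Scheme.IdealSheafData.ker_subschemeι] at hk
    exact @exists_regular_subfamily _ _ (hRL ((⨆ i, IY i).subschemeι.base z)) n _ rs' hrs' (hmap.symm.trans hk) _
      fun p hp => not_mem_minimalPrimes (⨆ i, IY i) ID hZD V hy x hx p (by rw [hk]; exact hp)

/-- Near each point some local equations of the divisors form a regular sequence generating all of them, and
the equation of the divisor is regular modulo them. -/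
theorem exists_nhd_data [IsLocallyNoetherian X] (hRL : ∀ y : X, IsRegularLocalRing (X.presheaf.stalk y))
    {n : ℕ} (IY : Fin n → X.IdealSheafData) (hY : ∀ i, _root_.BlowUp.IsEffCartierIdeal (IY i))
    (ID : X.IdealSheafData)
    (hZ : RegImm.IsRegularImmersion RegImm.Kind.regular (⨆ i, IY i).subschemeι)
    (hZD : ∀ z : ↥(⨆ i, IY i).subscheme, ringKrullDim ((⨆ i, IY i).subscheme.presheaf.stalk z) = 0 →
      (⨆ i, IY i).subschemeι.base z ∉ Set.range ID.subschemeι.base)
    (U : X.affineOpens) (x : Γ(X, U.1)) (hx : ID.ideal U = Ideal.span {x}) {y : X} (hy : y ∈ U.1) :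
    ∃ (V : X.affineOpens) (hVU : V.1 ≤ U.1), y ∈ V.1 ∧ ∃ e : ∀ i, Γ(ClSub.idealMod (IY i), V.1),
      (∀ i, IsGen (ClSub.idealMod (IY i)) V.1 (e i)) ∧
      ∃ (m : ℕ) (σ : Fin m → Fin n), Function.Injective σ ∧
        IsWeaklyRegular Γ(X, V.1) (List.ofFn fun k => val (IY (σ k)) V.1 (e (σ k))) ∧
        (∀ j, val (IY j) V.1 (e j) ∈ Ideal.span (Set.range fun k => val (IY (σ k)) V.1 (e (σ k)))) ∧
        ∀ r, (X.presheaf.map (homOfLE hVU).op).hom x * r ∈
            Ideal.span (Set.range fun k => val (IY (σ k)) V.1 (e (σ k))) →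
          r ∈ Ideal.span (Set.range fun k => val (IY (σ k)) V.1 (e (σ k))) := by
  classical
  obtain ⟨V₀, hyV₀, hV₀U, hV₀⟩ := exists_cartier_nhd IY hY hy Finset.univ
  choose e _ hei heg using fun i => exists_gen (hV₀ i (Finset.mem_univ i))
  let f : Fin n → Γ(X, V₀.1) := fun i => val (IY i) V₀.1 (e i)
  let x₀ := (X.presheaf.map (homOfLE hV₀U).op).hom x
  have hx₀ : ID.ideal V₀ = Ideal.span {x₀} := by
    rw [← ID.map_ideal hV₀U, hx, Ideal.map_span, Set.image_singleton]
    rfl
  have hI : (⨆ i, IY i).ideal V₀ = Ideal.span (Set.range f) := by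
    rw [Scheme.IdealSheafData.ideal_iSup, iSup_apply, Ideal.span, Submodule.span_range_eq_iSup]
    exact iSup_congr fun i => hei i
  haveI : IsNoetherianRing Γ(X, V₀.1) := IsLocallyNoetherian.component_noetherian V₀
  let germ : Γ(X, V₀.1) →+* X.presheaf.stalk y := (X.presheaf.germ V₀.1 y hyV₀).hom
  have hstalk := exists_stalk_data hRL IY ID hZ hZD V₀ f hI hyV₀ x₀ hx₀
  obtain ⟨m, σ, hσ, hspan, hwr⟩ := hstalk
  let algX : Algebra Γ(X, V₀.1) (X.presheaf.stalk y) :=
    TopCat.Presheaf.algebra_section_stalk X.presheaf (⟨y, hyV₀⟩ : V₀.1)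
  haveI hloc : IsLocalization.AtPrime (X.presheaf.stalk y) (V₀.2.primeIdealOf ⟨y, hyV₀⟩).asIdeal :=
    V₀.2.isLocalization_stalk ⟨y, hyV₀⟩
  obtain ⟨g₁, hg₁, h₁⟩ := GrothLib.RegSeqLoc.exists_away_isWeaklyRegular
    (V₀.2.primeIdealOf ⟨y, hyV₀⟩).asIdeal.primeCompl (X.presheaf.stalk y)
    ((List.ofFn fun k => f (σ k)) ++ [x₀]) (by
      rw [List.map_append, List.map_ofFn]; exact hwr)
  obtain ⟨g₂, hg₂, h₂⟩ := GrothLib.RegSeqLoc.exists_away_eq
    (V₀.2.primeIdealOf ⟨y, hyV₀⟩).asIdeal.primeCompl (X.presheaf.stalk y)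
    (Ideal.span (Set.range f)) (Ideal.span (Set.range fun k => f (σ k))) (by
      rw [Ideal.map_span, Ideal.map_span, ← Set.range_comp, ← Set.range_comp]; exact hspan.symm)
  let V : X.affineOpens := ⟨X.basicOpen (g₁ * g₂), V₀.2.basicOpen _⟩
  have hVV₀ : V.1 ≤ V₀.1 := X.basicOpen_le _
  let _ : Algebra Γ(X, V₀.1) Γ(X, V.1) := (X.presheaf.map (homOfLE hVV₀).op).hom.toAlgebra
  haveI : IsLocalization.Away (g₁ * g₂) Γ(X, V.1) := V₀.2.isLocalization_basicOpen _
  have hug : IsUnit (algebraMap Γ(X, V₀.1) Γ(X, V.1) (g₁ * g₂)) := IsLocalization.Away.algebraMap_isUnit _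
  rw [map_mul, IsUnit.mul_iff] at hug
  refine ⟨V, hVV₀.trans hV₀U, (Scheme.mem_basicOpen _ _ y hyV₀).2
    (IsLocalization.map_units (X.presheaf.stalk y)
      (⟨g₁ * g₂, mul_mem hg₁ hg₂⟩ : (V₀.2.primeIdealOf ⟨y, hyV₀⟩).asIdeal.primeCompl)),
    fun i => mres _ hVV₀ (e i), fun i => (heg i).restrict hVV₀, m, σ, hσ, ?_⟩
  have hval : ∀ i, val (IY i) V.1 (mres _ hVV₀ (e i)) = algebraMap Γ(X, V₀.1) Γ(X, V.1) (f i) := fun i =>
    IdealModSec.val_mres _ _ _
  simp only [hval]
  have hw := h₁ (Submonoid.powers (g₁ * g₂)) Γ(X, V.1) hug.1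
  rw [List.map_append, List.map_ofFn, List.map_singleton, isWeaklyRegular_concat_iff,
    GrothLib.KoszulH1.ofList_ofFn] at hw
  refine ⟨hw.1, fun j => ?_, ?_⟩
  · have := (h₂ Γ(X, V.1) hug.2).le (Ideal.mem_map_of_mem _ (Ideal.subset_span ⟨j, rfl⟩))
    rw [Ideal.map_span, ← Set.range_comp] at this
    exact this
  · have hxx : (X.presheaf.map (homOfLE (hVV₀.trans hV₀U)).op).hom x = algebraMap Γ(X, V₀.1) Γ(X, V.1) x₀ := by
      show _ = (X.presheaf.map _ ≫ X.presheaf.map _).hom x
      rw [← Functor.map_comp]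
      rfl
    intro r hr
    rw [hxx] at hr
    exact hw.2 r hr

/-- The differential of a Koszul complex is contraction. -/
theorem d_eq_contract {E : X.Modules} {s : E ⟶ Coh.structureModule X} (C : KoszSh.Cx E s) (p : ℕ)
    (V : X.affineOpens) (z : ↥(⋀[Γ(X, V.1)]^(p + 1) Γ(E, V.1))) :
    ((C.loc p V) ((C.K.d (p + 1) p).app V.1 ((C.loc (p + 1) V).symm z))).1 =
      CliffordAlgebra.contractLeft (KoszSh.secForm s V.1) z.1 := by
  have hz : z ∈ Submodule.span Γ(X, V.1) (Set.range (exteriorPower.ιMulti Γ(X, V.1) (p + 1) (M := Γ(E, V.1)))) := by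
    rw [exteriorPower.ιMulti_span]; trivial
  induction hz using Submodule.span_induction with
  | mem z hz =>
    obtain ⟨f, rfl⟩ := hz
    rw [C.rule, LinearEquiv.apply_symm_apply, exteriorPower.ιMulti_apply_coe]
    erw [GrothLib.KoszulExt.contract_ιMulti]
    simp [KoszSh.dGen, Submodule.coe_sum]
  | zero => simp
  | add a b _ _ ha hb => simp only [map_add, Submodule.coe_add, ha, hb]
  | smul r a _ ha =>
    rw [LinearEquiv.map_smul, Scheme.Modules.Hom.app_smul, LinearEquiv.map_smul, Submodule.coe_smul, ha,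
      Submodule.coe_smul, map_smul]

theorem homologyPi_res_eq_zero {n : ℕ} (IY : Fin n → X.IdealSheafData)
    (hY : ∀ i, _root_.BlowUp.IsEffCartierIdeal (IY i))
    (C : KoszSh.Cx (∐ fun i => ClSub.idealMod (IY i)) (Limits.Sigma.desc fun i => ClSub.idealModι (IY i)))
    (q : ℕ) (V : X.affineOpens) (e : ∀ i, Γ(ClSub.idealMod (IY i), V.1))
    (he : ∀ i, IsGen (ClSub.idealMod (IY i)) V.1 (e i)) {m : ℕ} (σ : Fin m → Fin n) (hσ : Function.Injective σ)
    (hreg : IsWeaklyRegular Γ(X, V.1) (List.ofFn fun k => val (IY (σ k)) V.1 (e (σ k))))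
    (hgen : ∀ j, val (IY j) V.1 (e j) ∈ Ideal.span (Set.range fun k => val (IY (σ k)) V.1 (e (σ k))))
    (x : Γ(X, V.1)) (hx : ∀ r, x * r ∈ Ideal.span (Set.range fun k => val (IY (σ k)) V.1 (e (σ k))) →
      r ∈ Ideal.span (Set.range fun k => val (IY (σ k)) V.1 (e (σ k))))
    (h : Γ(C.K.homology q, V.1)) (hh : x • h = 0) : h = 0 := by
  have hq : ∀ p, (C.K.X p).IsQuasicoherent := fun p =>
    Euler.isQuasicoherent_of_isFinLocFree (ExtPowX.isFinLocFree_extPow (isFinLocFree_sigma IY hY) (C.isExtPow p))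
  haveI := hq (q + 1); haveI := hq q; haveI := hq ((ComplexShape.down ℕ).next q)
  haveI : (C.K.cycles q).IsQuasicoherent := by
    haveI : (kernel (C.K.d q ((ComplexShape.down ℕ).next q))).IsQuasicoherent := QCoh.isQuasicoherent_kernel _
    exact QCoh.isQuasicoherent_of_iso (M := kernel (C.K.d q ((ComplexShape.down ℕ).next q)))
      (IsLimit.conePointUniqueUpToIso (kernelIsKernel _) (C.K.cyclesIsKernel q _ rfl))
  obtain ⟨hs, hk⟩ := app_of_isCokernel _ (C.K.homologyIsCokernel (q + 1) q (by simp)) V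
  obtain ⟨z, rfl⟩ := hs h
  rw [← Scheme.Modules.Hom.app_smul] at hh
  obtain ⟨a, ha⟩ := hk _ hh
  let b := (isFrame_sigma (fun i => ClSub.idealMod (IY i)) e he).basis V.1 le_rfl
  let φ := KoszSh.secForm (Limits.Sigma.desc fun i => ClSub.idealModι (IY i)) V.1
  have hb : ∀ i, φ (b i) = val (IY i) V.1 (e i) := fun i => by
    have hbi : b i = (Sigma.ι (fun i => ClSub.idealMod (IY i)) i).app V.1 (e i) := by
      simp only [b]
      rw [FinCov.IsFrame.basis_apply]
      exact InvExt.mres_self _ _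
    rw [hbi]
    show OmegaSh.fnSect X V.1 ((Sigma.ι (fun i => ClSub.idealMod (IY i)) i ≫
      Limits.Sigma.desc fun i => ClSub.idealModι (IY i)).app V.1 (e i)) = _
    rw [Sigma.ι_desc]
    rfl
  let y := C.loc q V ((C.K.iCycles q).app V.1 z)
  let w := C.loc (q + 1) V a
  have hw : CliffordAlgebra.contractLeft φ w.1 = x • y.1 := by
    rw [← d_eq_contract C q V w]
    simp only [w, y, LinearEquiv.symm_apply_apply]
    rw [← Submodule.coe_smul, ← map_smul, ← Scheme.Modules.Hom.app_smul, ← ha, ← C.K.toCycles_i (q + 1) q]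
    rfl
  have hd : CliffordAlgebra.contractLeft φ y.1 = 0 := by
    cases q with
    | zero => exact (GrothLib.KoszulExt.contract_mem φ y.2).1 rfl
    | succ p =>
      rw [← d_eq_contract C p V y]
      simp only [y, LinearEquiv.symm_apply_apply]
      have : (C.K.d (p + 1) p).app V.1 ((C.K.iCycles (p + 1)).app V.1 z) = 0 := by
        show (C.K.iCycles (p + 1) ≫ C.K.d (p + 1) p).app V.1 z = 0
        rw [C.K.iCycles_d]; rfl
      rw [this, map_zero]; rfl
  obtain ⟨v, hv, hdv⟩ := exists_contract_eq_of_smul b φ σ hσ (by simpa only [hb] using hreg)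
    (fun j => by simpa only [hb] using hgen j) x (fun r => by simpa only [hb] using hx r) q y.1 y.2 hd w.1 w.2 hw
  have hz : (C.K.toCycles (q + 1) q).app V.1 ((C.loc (q + 1) V).symm ⟨v, hv⟩) = z := by
    refine Cohom.app_injective_of_mono (C.K.iCycles q) V.1 ((C.loc q V).injective (Subtype.ext ?_))
    show (C.loc q V ((C.K.toCycles (q + 1) q ≫ C.K.iCycles q).app V.1 _)).1 = y.1
    rw [C.K.toCycles_i, d_eq_contract]
    exact hdv
  rw [← hz]
  show (C.K.toCycles (q + 1) q ≫ C.K.homologyπ q).app V.1 _ = 0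
  rw [C.K.toCycles_comp_homologyπ]
  rfl

theorem isSMulRegular_homology [IsLocallyNoetherian X] (hRL : ∀ y : X, IsRegularLocalRing (X.presheaf.stalk y))
    {n : ℕ} (IY : Fin n → X.IdealSheafData) (hY : ∀ i, _root_.BlowUp.IsEffCartierIdeal (IY i))
    (ID : X.IdealSheafData)
    (hZ : RegImm.IsRegularImmersion RegImm.Kind.regular (⨆ i, IY i).subschemeι)
    (hZD : ∀ z : ↥(⨆ i, IY i).subscheme, ringKrullDim ((⨆ i, IY i).subscheme.presheaf.stalk z) = 0 →
      (⨆ i, IY i).subschemeι.base z ∉ Set.range ID.subschemeι.base)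
    (C : KoszSh.Cx (∐ fun i => ClSub.idealMod (IY i)) (Limits.Sigma.desc fun i => ClSub.idealModι (IY i)))
    (q : ℕ) (U : X.affineOpens) (x : Γ(X, U.1)) (hx : ID.ideal U = Ideal.span {x}) :
    IsSMulRegular Γ(C.K.homology q, U.1) x := by
  rw [isSMulRegular_iff_right_eq_zero_of_smul]
  intro h hh
  refine TopCat.Presheaf.section_ext ⟨(C.K.homology q).presheaf, (C.K.homology q).isSheaf⟩ U.1 h 0 fun y hy => ?_
  obtain ⟨V, hVU, hyV, e, he, m, σ, hσ, hreg, hgen, hxr⟩ := exists_nhd_data hRL IY hY ID hZ hZD U x hx hy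
  show (C.K.homology q).presheaf.germ U.1 y hy h = (C.K.homology q).presheaf.germ U.1 y hy 0
  rw [map_zero, ← TopCat.Presheaf.germ_res_apply (C.K.homology q).presheaf (homOfLE hVU) y hyV h,
    homologyPi_res_eq_zero IY hY C q V e he σ hσ hreg hgen _ hxr ((C.K.homology q).presheaf.map (homOfLE hVU).op h)
      (by rw [← Scheme.Modules.map_smul, hh, map_zero]), map_zero]

end GrothLib.Koszul12
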